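import Cfsg.Agent.H993.AbTool
import Cfsg.Agent.H805.NilHS
import Cfsg.Agent.H547.SelfCent.McLHS
import Cfsg.Agent.H852.IMHS
import Cfsg.Agent.Prune
set_option linter.all false
prune_inst 0x7f00000000000000000000000000000000000000000000000000000000000000000000000000000000000000000000000000000000000000000000000000000000000000000000000000000000000000003fffffffffffffffffffffffffffbeffbdffffffff
open scoped Cfsg.Agent.FastGrp

/-!
# Abelian subgroups of `HS` (helper993, for S2501)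

`ab3_HS`.
-/

set_option autoImplicit false

namespace Cfsg.Agent.H993.AbHS

open Cfsg Subgroup Cfsg.Agent.H498.Ab Cfsg.Agent.H993.AbTool
open Cfsg.Agent.H805.NilSp (card_cent_isConj NoComm noComm_of_not_dvd not_dvd_of_noComm)
open Cfsg.Agent.KFacts.HS Cfsg.Agent.KFacts.HS.DFour

section five

open Cfsg.Agent.H852.IMHS Cfsg.Agent.H33 Cfsg.Agent.H852.IMPerm Cfsg.Agent.H852.IMLocal Equiv
open Cfsg.Agent.SporadicA.PermTab Cfsg.Agent.HN.HS100

theorem aux_arith {n : ℕ} (h0 : 0 < n) (hle : n ≤ 600) (h2 : 2 ∣ n) (h3 : 3 ∣ n) (h5 : 5 ^ 3 ∣ n) : False := by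
  have h6 : 2 * 3 * 5 ^ 3 ∣ n :=
    Nat.Coprime.mul_dvd_of_dvd_of_dvd (by norm_num) (Nat.Coprime.mul_dvd_of_dvd_of_dvd (by norm_num) h2 h3) h5
  have h7 := Nat.le_of_dvd h0 h6
  norm_num at h7
  omega

theorem aux_dvd {X : Type*} [Group X] {x t : X} {p : ℕ} (ht : orderOf t = p) (htx : t * x = x * t) :
    p ∣ Nat.card ↥(centralizer ({x} : Set X)) := by
  have h := orderOf_dvd_natCard (⟨t, mem_centralizer_singleton_iff.2 htx⟩ : ↥(centralizer ({x} : Set X)))
  rwa [Subgroup.orderOf_mk, ht] at h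

theorem not_dvd_of_le {X : Type*} [Group X] [Finite X] {x s t : X} (hle : Nat.card (centralizer ({x} : Set X)) ≤ 600)
    (hs : orderOf s = 3) (hsx : s * x = x * s) (ht : orderOf t = 2) (htx : t * x = x * t) :
    ¬ 5 ^ 3 ∣ Nat.card ↥(centralizer ({x} : Set X)) := fun h5 =>
  aux_arith Nat.card_pos hle (aux_dvd ht htx) (aux_dvd hs hsx) h5

/-- an element of order 5 whose centralizer contains no Sylow 5-subgroup -/
theorem exists_five_Q : ∃ x : Q, orderOf x = 5 ∧ ¬ 5 ^ 3 ∣ Nat.card ↥(centralizer ({x} : Set Q)) := by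
  have : Fact (Nat.Prime 5) := ⟨by norm_num⟩
  have : Fact (Nat.Prime 3) := ⟨by norm_num⟩
  have : Fact (Nat.Prime 2) := ⟨by norm_num⟩
  obtain ⟨x, hx⟩ := exists_el in5x
  obtain ⟨s, hs⟩ := exists_el inus
  obtain ⟨t, ht⟩ := exists_el inut
  have hxo : orderOf x = 5 := orderOf_of hx (by decide +kernel) 0 (by decide +kernel)
  have hso : orderOf s = 3 := orderOf_of hs (by decide +kernel) 0 (by decide +kernel)
  have hto : orderOf t = 2 := orderOf_of ht (by decide +kernel) 0 (by decide +kernel)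
  have hsx : s * x = x * s := commute_of hs hx (by decide +kernel)
  have htx : t * x = x * t := commute_of ht hx (by decide +kernel)
  exact ⟨x, hxo, not_dvd_of_le (card_le_600 hx) hso hsx hto htx⟩

/-- an element of order 5 whose centralizer contains no Sylow 5-subgroup -/
theorem exists_five : ∃ x : Spor.HS, orderOf x = 5 ∧ ¬ 5 ^ 3 ∣ Nat.card ↥(centralizer ({x} : Set Spor.HS)) := by
  obtain ⟨⟨e⟩, -⟩ := Cfsg.Agent.HN.AutHS.nonempty_Q
  obtain ⟨x, hx, h⟩ := exists_five_Q
  refine ⟨e x, by rw [MulEquiv.orderOf_eq, hx], ?_⟩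
  rw [card_cent_equiv' e x]
  exact h

end five

theorem ab3_HS {G : Type*} [Group G] [Finite G] [IsSimpleGroup G] (h : Cfsg.Spor.IsoHS G) : Ab3 G := by
  have hc := KFacts.HS.card h
  obtain ⟨D⟩ := KFacts.HS.exists_mod h
  -- the involutions
  have h2 : CA 2 [7680, 2880] G := by
    refine CD.ca Nat.prime_two fun t ht => ?_
    have htt : t * t = 1 := by rw [← pow_two, ← ht, pow_orderOf_eq_one]
    have ht1 : t ≠ 1 := by
      rintro rfl
      rw [orderOf_one] at ht
      omega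
    rcases inv_cases D t htt ht1 with ⟨c, h⟩ | ⟨c, h⟩
    · refine ⟨7680, by simp, ?_⟩
      rw [card_cent_isConj (isConj_iff.2 ⟨c, h⟩), ← BpSpor.HSInv.z_eq, D.card_centralizer]
    · refine ⟨2880, by simp, ?_⟩
      rw [card_cent_isConj (isConj_iff.2 ⟨c, h⟩)]
      exact H805.NilSp.card_cent_wB D hc
  have hcent : ∀ t : G, orderOf t = 2 → Nat.card ↥(centralizer ({t} : Set G)) ∣ 2 ^ 9 * 3 ^ 2 * 5 := by
    intro t ht
    have htt : t * t = 1 := by rw [← pow_two, ← ht, pow_orderOf_eq_one]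
    have ht1 : t ≠ 1 := by
      rintro rfl
      rw [orderOf_one] at ht
      omega
    rcases inv_cases D t htt ht1 with ⟨c, h⟩ | ⟨c, h⟩
    · rw [card_cent_isConj (isConj_iff.2 ⟨c, h⟩), ← BpSpor.HSInv.z_eq, D.card_centralizer]
      norm_num
    · rw [card_cent_isConj (isConj_iff.2 ⟨c, h⟩)]
      exact (H805.NilSp.card_cent_wB D hc).trans (by norm_num)
  have hno2 : ∀ p : ℕ, p = 7 ∨ p = 11 → NoComm p 2 G := by
    intro p h7
    refine NoComm.symm (noComm_of_not_dvd fun t ht hpd => ?_)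
    have h1 := hpd.trans (hcent t ht)
    rcases h7 with rfl | rfl <;> norm_num at h1
  have h11 : ∀ x : G, orderOf x = 11 → Nat.card ↥(centralizer ({x} : Set G)) = 11 := fun x hx =>
    H547.SelfCent.McLHS.hs h (fun x t hx ht hxt => hno2 11 (Or.inr rfl) x t hx ht hxt) hc hx
  -- `C(x) ∩ C(t)`
  have hpair : ∀ p : ℕ, p = 3 ∨ p = 5 → CA (p * 2) [32 * p ^ 2] G := by
    intro p hp
    have hpp : p.Prime := by rcases hp with rfl | rfl <;> norm_num
    refine ca_of_two hpp Nat.prime_two fun x t hx ht hxt => ⟨32 * p ^ 2, by simp, ?_⟩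
    obtain ⟨n, hn⟩ := BpSpor.HSInv.bd D hp t ht x hx hxt
    rw [inf_comm]
    have h5 := (Subgroup.card_dvd_of_le (inf_le_left : centralizer ({t} : Set G) ⊓ centralizer ({x} : Set G) ≤ _)).trans
      (hcent t ht)
    obtain ⟨a, b, ha, hb, hab⟩ := exists_dvd_and_dvd_of_dvd_mul hn
    rw [hab] at h5 ⊢
    refine Nat.mul_dvd_mul ha ?_
    have h6 := (dvd_mul_left b a).trans h5
    rcases hp with rfl | rfl
    · rw [show (2 : ℕ) ^ 9 * 3 ^ 2 * 5 = (2 ^ 9 * 5) * 3 ^ 2 by norm_num] at h6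
      have h8 : Nat.Coprime b (2 ^ 9 * 5) := Nat.Coprime.coprime_dvd_left hb (Nat.Coprime.pow_left n (by norm_num))
      exact h8.dvd_of_dvd_mul_left h6
    · have h8 : Nat.Coprime b (2 ^ 9 * 3 ^ 2) := Nat.Coprime.coprime_dvd_left hb (Nat.Coprime.pow_left n (by norm_num))
      exact (h8.dvd_of_dvd_mul_left h6).trans (by norm_num)
  have h10 : CA (5 * 2) [160] G := by
    intro A hA hd
    obtain ⟨c, hc1, hc2⟩ := hpair 5 (Or.inr rfl) A hA hd
    obtain ⟨d, hd1, hd2⟩ := h2 A hA ((by norm_num : 2 ∣ 5 * 2).trans hd)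
    simp only [List.mem_cons, List.not_mem_nil, or_false] at hc1 hd1
    refine ⟨160, by simp, ?_⟩
    rw [hc1] at hc2
    have h3 : Nat.card A ∣ 2 ^ 9 * 3 ^ 2 * 5 := by
      rcases hd1 with rfl | rfl
      · exact hd2.trans (by norm_num)
      · exact hd2.trans (by norm_num)
    have := Nat.dvd_gcd hc2 h3
    exact this.trans (by norm_num)
  have h512 : Fb (2 ^ 9) G := by
    have hw : orderOf (wB D) = 2 := orderOf_eq_prime (by rw [pow_two]; exact wB_sq D) fun h1 =>
      wB_not_mem_LA D (by rw [h1]; exact one_mem _)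
    refine fb_of_full (e := 9) Nat.prime_two (by rw [hc]; norm_num) hw fun hd => ?_
    have := hd.trans (H805.NilSp.card_cent_wB D hc)
    norm_num at this
  have h125 : Fb (5 ^ 3) G := by
    obtain ⟨e⟩ := h
    obtain ⟨x, hx, hx5⟩ := exists_five
    refine fb_of_full (e := 3) Nat.prime_five (by rw [hc]; norm_num) (t := e.symm x)
      (by rw [MulEquiv.orderOf_eq, hx]) ?_
    rw [card_cent_equiv' e.symm x]
    exact hx5
  have hno : ∀ q ∈ [2, 11], q.Prime ∧ NoComm 7 q G := by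
    intro q hq
    simp only [List.mem_cons, List.not_mem_nil, or_false] at hq
    rcases hq with rfl | rfl
    · exact ⟨Nat.prime_two, hno2 7 (Or.inl rfl)⟩
    · exact ⟨by norm_num, (noComm_of_eq h11 (by norm_num)).symm⟩
  refine ab3_of_chk3 hc [(2, 9), (3, 2), (5, 3), (7, 1), (11, 1)] (by decide +kernel)
    [(2, [7680, 2880]), (3 * 2, [32 * 3 ^ 2]), (5 * 2, [160]), (2 ^ 9, []), (5 ^ 3, []),
      (7, sylF [(2, 9), (3, 2), (5, 3), (7, 1), (11, 1)] 44352000 7 [2, 11]), (11, [11])] ?_ (by decide +kernel)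
  intro d hd
  simp only [List.mem_cons, List.not_mem_nil, or_false] at hd
  rcases hd with rfl | rfl | rfl | rfl | rfl | rfl | rfl
  · exact h2
  · exact hpair 3 (Or.inl rfl)
  · exact h10
  · exact h512.ca
  · exact h125.ca
  · exact ca_sylF hc (by decide +kernel) (by norm_num) (by norm_num) (by norm_num) hno
  · exact ca_of_cent (by norm_num) fun x hx => (h11 x hx).dvd

end Cfsg.Agent.H993.AbHS
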