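import Mathlib
import Cfsg.Prelude.Def_Local
import Cfsg.Agent.S0205
import Cfsg.Agent.Solvable.Hall
import Cfsg.Agent.H503.TwoSuz
import Cfsg.Agent.H570.AltBad
import Cfsg.Agent.H411.FiCent
import Cfsg.Agent.LThreeMB.Row
import Cfsg.Agent.LThreeMB.CoOneFin
import Cfsg.Agent.LThreeBX.Main
import Cfsg.Agent.LThreeM.SigRow
import Cfsg.Agent.CTwoTab.Monster
import Cfsg.Agent.FastGrp
import Cfsg.Agent.Prune
set_option linter.all false
prune_inst 0x7f00000000000000000000000000000000000000000000000000000000000000000000000000000000000000000000000000000000000000000000000000000000000000000000000000000000000000003fffffffffffffffffffffffffffbeffbdffffffff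
open scoped Cfsg.Agent.FastGrp

-- part: H993/NoBadMAbs
section
/-!
# Normal subgroups of odd order of a group with an isolated involution and quotient `Suz` (helper993)

* `no_odd_suz` : `Suz` has no subgroup of odd order and index at most `3 ^ 13`;
* `nilpotent_of` : a normal subgroup `N` of odd order such that `C_N(z)` is central is nilpotent;
* `main_abs` : with `C_D(z)` mapping onto `Suz` with a small kernel and `3 ^ 21 ∤ |D|`, no element of order 3 of a normal
  subgroup of odd order has a centralizer of odd order.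
-/

set_option autoImplicit false

namespace Cfsg.Agent.H993.NoBadMAbs

open Subgroup Cfsg

universe u v

/-! ### Subgroups of odd order of `Suz` -/

/-- a subgroup of order `p * k` with `1` the only divisor of `k` congruent to `1` modulo `p` -/
theorem card_dvd_norm {T : Type u} [Group T] [Finite T] (M : Subgroup T) {p k b : ℕ} (hp : p.Prime)
    (hM : Nat.card M = p * k) (hpk : ¬ p ∣ k) (hk : ∀ n, n ∣ k → n % p = 1 → n = 1)
    (hN : ∀ P : Subgroup T, Nat.card P = p → Nat.card ↥(normalizer (P : Set T)) ∣ b) : p * k ∣ b := by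
  have : Fact p.Prime := ⟨hp⟩
  obtain ⟨P⟩ : Nonempty (Sylow p M) := inferInstance
  have hP : Nat.card (P : Subgroup M) = p := by
    rw [P.card_eq_multiplicity, hM]
    have hk0 : k ≠ 0 := by
      rintro rfl
      exact hpk (dvd_zero p)
    have : (p * k).factorization p = 1 := by
      rw [Nat.factorization_mul hp.ne_zero hk0, Finsupp.add_apply, Nat.Prime.factorization_self hp,
        Nat.factorization_eq_zero_of_not_dvd hpk]
    rw [this, pow_one]
  have hidx : (P : Subgroup M).index = k := by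
    have h1 := (P : Subgroup M).card_mul_index
    rw [hP, hM] at h1
    exact Nat.eq_of_mul_eq_mul_left hp.pos h1
  have h1 : Nat.card (Sylow p M) = 1 := by
    refine hk _ ?_ ?_
    · have := P.card_dvd_index
      rwa [hidx] at this
    · have := card_sylow_modEq_one p M
      rw [Nat.ModEq] at this
      rw [this, Nat.mod_eq_of_lt hp.one_lt]
  have hn : (P : Subgroup M).Normal := by
    have h2 : Subsingleton (Sylow p M) := (Nat.card_eq_one_iff_unique.1 h1).1
    exact P.normal_of_subsingleton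
  have h2 : M ≤ normalizer (((P : Subgroup M).map M.subtype : Subgroup T) : Set T) := by
    intro m hm
    rw [mem_normalizer_iff]
    intro x
    constructor
    · rintro ⟨y, hy, rfl⟩
      exact ⟨(⟨m, hm⟩ * y * ⟨m, hm⟩⁻¹ :), hn.conj_mem y hy ⟨m, hm⟩, rfl⟩
    · rintro ⟨y, hy, hyx⟩
      refine ⟨(⟨m, hm⟩⁻¹ * y * ⟨m, hm⟩⁻¹⁻¹ :), hn.conj_mem y hy ⟨m, hm⟩⁻¹, ?_⟩
      show m⁻¹ * (y : T) * m⁻¹⁻¹ = x
      have h3 : (y : T) = m * x * m⁻¹ := hyx
      rw [h3]; group
  have h3 := hN ((P : Subgroup M).map M.subtype) (by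
    rw [Subgroup.card_map_of_injective M.subtype_injective, hP])
  rw [← hM]
  exact (Subgroup.card_dvd_of_le h2).trans h3

/-- the arithmetic -/
theorem arith {d h : ℕ} (hd : d ≤ 194) (hh : h * d = 54729675) :
    (∃ n, h = 143 * n ∧ Nat.Coprime 143 n) ∨ (∃ n, h = 91 * n ∧ Nat.Coprime 91 n) ∨
    (∃ n, h = 77 * n ∧ Nat.Coprime 77 n) ∨ (∃ n, h = 325 * n ∧ Nat.Coprime 325 n) ∨
    (∃ n, h = 275 * n ∧ Nat.Coprime 275 n) ∨ (∃ n, h = 175 * n ∧ Nat.Coprime 175 n) := by
  have key : ∀ d ∈ Finset.range 195, d ∣ 54729675 → d ≠ 0 →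
      (143 ∣ 54729675 / d ∧ Nat.Coprime 143 (54729675 / d / 143)) ∨
      (91 ∣ 54729675 / d ∧ Nat.Coprime 91 (54729675 / d / 91)) ∨
      (77 ∣ 54729675 / d ∧ Nat.Coprime 77 (54729675 / d / 77)) ∨
      (325 ∣ 54729675 / d ∧ Nat.Coprime 325 (54729675 / d / 325)) ∨
      (275 ∣ 54729675 / d ∧ Nat.Coprime 275 (54729675 / d / 275)) ∨
      (175 ∣ 54729675 / d ∧ Nat.Coprime 175 (54729675 / d / 175)) := by
    decide +kernel
  have hd0 : d ≠ 0 := by
    rintro rfl
    rw [mul_zero] at hh
    norm_num at hh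
  have hdd : d ∣ 54729675 := ⟨h, by rw [← hh, mul_comm]⟩
  have hhe : h = 54729675 / d := by
    rw [← hh, Nat.mul_div_cancel _ (Nat.pos_of_ne_zero hd0)]
  have := key d (Finset.mem_range.2 (by omega)) hdd hd0
  rw [← hhe] at this
  have conv : ∀ m : ℕ, m ∣ h ∧ Nat.Coprime m (h / m) → ∃ n, h = m * n ∧ Nat.Coprime m n := by
    rintro m ⟨h1, h2⟩
    exact ⟨h / m, (Nat.mul_div_cancel' h1).symm, h2⟩
  rcases this with h1 | h1 | h1 | h1 | h1 | h1
  · exact Or.inl (conv _ h1)
  · exact Or.inr (Or.inl (conv _ h1))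
  · exact Or.inr (Or.inr (Or.inl (conv _ h1)))
  · exact Or.inr (Or.inr (Or.inr (Or.inl (conv _ h1))))
  · exact Or.inr (Or.inr (Or.inr (Or.inr (Or.inl (conv _ h1)))))
  · exact Or.inr (Or.inr (Or.inr (Or.inr (Or.inr (conv _ h1)))))

/-- **`Suz` has no subgroup of odd order and index at most `3 ^ 13`.** -/
theorem no_odd_suz {T : Type u} [Group T] [Finite T] (h : Spor.IsoSuz T) (H : Subgroup T) (ho : Odd (Nat.card H))
    (hi : H.index ≤ 1594323) : False := by
  have hcT := H503.TwoSuz.card_of h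
  have h1 := H.card_mul_index
  rw [hcT] at h1
  -- the order divides the odd part
  have h2 : Nat.card H ∣ 54729675 := by
    have h3 : Nat.card H ∣ 2 ^ 13 * 54729675 := ⟨H.index, by rw [h1]; norm_num⟩
    exact ((Nat.coprime_two_right.2 ho).pow_right 13).dvd_of_dvd_mul_left h3
  obtain ⟨d, hd⟩ := h2
  have h3 : H.index = 8192 * d := by
    have h4 : Nat.card H * H.index = Nat.card H * (8192 * d) := by
      rw [h1]
      calc 448345497600 = 8192 * 54729675 := by norm_num
        _ = 8192 * (Nat.card H * d) := by rw [← hd]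
        _ = _ := by ring
    exact Nat.eq_of_mul_eq_mul_left Nat.card_pos h4
  have h4 : d ≤ 194 := by omega
  have hsol : Group.IsSolvable ↥H := S0205.result ho
  -- Hall subgroups
  have hall : ∀ (p k b : ℕ), p.Prime → ¬ p ∣ k → (∀ n, n ∣ k → n % p = 1 → n = 1) →
      (∀ P : Subgroup T, Nat.card P = p → Nat.card ↥(normalizer (P : Set T)) ∣ b) →
      (∃ n, Nat.card H = p * k * n ∧ Nat.Coprime (p * k) n) → p * k ∣ b := by
    rintro p k b hp hpk hk hN ⟨n, hn, hcop⟩
    obtain ⟨M, hM⟩ := Solvable.Hall.hall_exists (G := ↥H) (p * k) n hn hcop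
    exact card_dvd_norm (M.map H.subtype) hp
      (by rw [Subgroup.card_map_of_injective H.subtype_injective, hM]) hpk hk hN
  have d7 := fun (P : Subgroup T) hP => (H503.TwoSuz.data_seven h P hP).2
  have d11 := fun (P : Subgroup T) hP => (H503.TwoSuz.data_eleven h P hP).2
  have d13 := fun (P : Subgroup T) hP => (H503.TwoSuz.data_thirteen h P hP).2
  have dv : ∀ (p k : ℕ), k ≠ 0 → (∀ n ∈ Finset.range (k + 1), n ∣ k → n % p = 1 → n = 1) →
      ∀ n, n ∣ k → n % p = 1 → n = 1 := fun p k hk0 hk n hn =>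
    hk n (Finset.mem_range.2 (Nat.lt_succ_of_le (Nat.le_of_dvd (Nat.pos_of_ne_zero hk0) hn))) hn
  rcases arith h4 hd.symm with h5 | h5 | h5 | h5 | h5 | h5
  · have := hall 13 11 _ (by norm_num) (by norm_num) (dv 13 11 (by norm_num) (by decide)) d13 h5
    norm_num at this
  · have := hall 13 7 _ (by norm_num) (by norm_num) (dv 13 7 (by norm_num) (by decide)) d13 h5
    norm_num at this
  · have := hall 11 7 _ (by norm_num) (by norm_num) (dv 11 7 (by norm_num) (by decide)) d11 h5
    norm_num at this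
  · have := hall 13 25 _ (by norm_num) (by norm_num) (dv 13 25 (by norm_num) (by decide)) d13 h5
    norm_num at this
  · have := hall 11 25 _ (by norm_num) (by norm_num) (dv 11 25 (by norm_num) (by decide)) d11 h5
    norm_num at this
  · have := hall 7 25 _ (by norm_num) (by norm_num) (dv 7 25 (by norm_num) (by decide)) d7 h5
    norm_num at this

/-! ### An involution with a central centralizer in a normal subgroup of odd order -/

/-- **A normal subgroup `N` of odd order such that `C_N(z)` is central is nilpotent.** -/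
theorem nilpotent_of {D : Type u} [Group D] [Finite D] {z : D} (hz : z * z = 1) {N : Subgroup D} (hN : N.Normal)
    (ho : Odd (Nat.card N)) (hc : ∀ n ∈ N, n * z = z * n → n ∈ center D) : Group.IsNilpotent ↥N := by
  have hzi : z⁻¹ = z := inv_eq_of_mul_eq_one_left hz
  -- the automorphism
  let σ : ↥N →* ↥N := (MulAut.conjNormal z : MulAut ↥N).toMonoidHom
  have hσ : ∀ n : ↥N, ((σ n : ↥N) : D) = z * n * z⁻¹ := fun n => MulAut.conjNormal_apply z n
  have hσσ : ∀ n : ↥N, σ (σ n) = n := by
    intro n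
    apply Subtype.ext
    rw [hσ, hσ]
    calc z * (z * (n : D) * z⁻¹) * z⁻¹ = (z * z) * n * (z * z)⁻¹ := by group
      _ = n := by rw [hz]; group
  have hfix : ∀ n : ↥N, σ n = n → n ∈ center ↥N := by
    intro n hn
    have h1 : (n : D) * z = z * n := by
      have h2 : z * (n : D) * z⁻¹ = n := by rw [← hσ, hn]
      calc (n : D) * z = (z * (n : D) * z⁻¹) * z := by rw [h2]
        _ = z * n := by group
    have h2 := hc n n.2 h1
    rw [mem_center_iff] at h2 ⊢
    exact fun g => Subtype.ext (h2 g)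
  -- the subgroup of fixed points
  let C : Subgroup ↥N :=
    { carrier := {n | σ n = n}
      one_mem' := map_one σ
      mul_mem' := by
        intro a b ha hb
        show σ (a * b) = a * b
        rw [map_mul, show σ a = a from ha, show σ b = b from hb]
      inv_mem' := by
        intro a ha
        show σ a⁻¹ = a⁻¹
        rw [map_inv, show σ a = a from ha] }
  have hCc : C ≤ center ↥N := fun n hn => hfix n hn
  have hCn : C.Normal := ⟨fun n hn g => by
    have h1 : g * n * g⁻¹ = n := by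
      rw [(mem_center_iff.1 (hCc hn)) g]; group
    rw [h1]; exact hn⟩
  have hodd : ∀ n : ↥N, n * n = 1 → n = 1 := by
    intro n hn
    have h1 : orderOf n ∣ 2 := orderOf_dvd_of_pow_eq_one (by rw [pow_two, hn])
    have h2 : orderOf n = 1 := Nat.eq_one_of_dvd_coprimes (Nat.coprime_two_right.2 ho) (orderOf_dvd_natCard n) h1
    exact orderOf_eq_one_iff.1 h2
  have hmap : C ≤ C.comap σ := by
    intro n hn
    rw [mem_comap, show σ n = n from hn]
    exact hn
  let ψ : ↥N ⧸ C →* ↥N ⧸ C := QuotientGroup.map C C σ hmap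
  have hψ : ∀ n : ↥N, ψ (QuotientGroup.mk n) = QuotientGroup.mk (σ n) := fun n => rfl
  have hff : MonoidHom.FixedPointFree ψ := by
    intro g
    refine QuotientGroup.induction_on g fun n => ?_
    intro hg
    rw [hψ, QuotientGroup.eq] at hg
    -- `c = (σ n)⁻¹ n` is fixed
    have h1 : σ ((σ n)⁻¹ * n) = (σ n)⁻¹ * n := hg
    rw [map_mul, map_inv, hσσ] at h1
    have h2 : ((σ n)⁻¹ * n) * ((σ n)⁻¹ * n) = 1 := by
      calc ((σ n)⁻¹ * n) * ((σ n)⁻¹ * n) = (n⁻¹ * σ n) * ((σ n)⁻¹ * n) := by rw [h1]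
        _ = 1 := by group
    have h3 := hodd _ h2
    rw [QuotientGroup.eq_one_iff]
    show σ n = n
    exact inv_mul_eq_one.1 h3
  have hinv : Function.Involutive ψ := by
    intro g
    refine QuotientGroup.induction_on g fun n => ?_
    rw [hψ, hψ, hσσ]
  have hcomm := hff.commute_all_of_involutive hinv
  have hab : Group.IsNilpotent (↥N ⧸ C) := by
    let _ : CommGroup (↥N ⧸ C) := { (inferInstance : Group (↥N ⧸ C)) with mul_comm := fun a b => hcomm a b }
    exact (inferInstance : Group.IsNilpotent (↥N ⧸ C))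
  exact Subgroup.isNilpotent_of_ker_le_center (QuotientGroup.mk' C) (by rw [QuotientGroup.ker_mk']; exact hCc)

/-! ### The main theorem -/

/-- **No element of order 3 of a normal subgroup of odd order has a centralizer of odd order.** -/
theorem main_abs {D : Type u} [Group D] [Finite D] {z : D} (hz : orderOf z = 2) {X : Type v} [Group X]
    (hX : Spor.IsoSuz X) {φ : ↥(centralizer ({z} : Set D)) →* X} (hφ : Function.Surjective φ)
    (six : ∀ k ∈ φ.ker, k ^ 6 = 1) (cen : ∀ k ∈ φ.ker, k ^ 3 = 1 → (k : D) ∈ center D)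
    (hD : ¬ 3 ^ 21 ∣ Nat.card D) {N : Subgroup D} (hN : N.Normal) (ho : Odd (Nat.card N)) {x : D} (hx : orderOf x = 3)
    (hxN : x ∈ N) (hxo : Odd (Nat.card ↥(centralizer ({x} : Set D)))) : False := by
  have h3F : Fact (Nat.Prime 3) := ⟨Nat.prime_three⟩
  have hzz : z * z = 1 := by rw [← pow_two, ← hz, pow_orderOf_eq_one]
  have hXs := H503.TwoSuz.simple_of hX
  have hXc := H503.TwoSuz.card_of hX
  have hXf : Finite X := Finite.of_surjective φ hφ
  -- normal subgroups of odd order meet `C(z)` in the kernel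
  have hker : ∀ M : Subgroup D, M.Normal → Odd (Nat.card M) → M.subgroupOf (centralizer ({z} : Set D)) ≤ φ.ker := by
    intro M hM hMo
    have hn : ((M.subgroupOf (centralizer ({z} : Set D))).map φ).Normal :=
      Subgroup.Normal.map (hM.subgroupOf _) φ hφ
    rcases hn.eq_bot_or_eq_top with h | h
    · exact (Subgroup.map_eq_bot_iff _).1 h
    · exfalso
      have h1 : Nat.card X ∣ Nat.card M := by
        rw [← Subgroup.card_top (G := X), ← h]
        refine (Subgroup.card_map_dvd _ φ).trans ?_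
        rw [← Subgroup.card_map_of_injective (Subgroup.subtype_injective (centralizer ({z} : Set D))),
          subgroupOf_map_subtype]
        exact Subgroup.card_dvd_of_le inf_le_left
      rw [hXc] at h1
      exact (Nat.not_even_iff_odd.2 hMo) ((even_iff_two_dvd).2 ((by norm_num : 2 ∣ 448345497600).trans h1))
  -- `C_N(z)` is central
  have hcen : ∀ n ∈ N, n * z = z * n → n ∈ center D := by
    intro n hn hnz
    set k : ↥(centralizer ({z} : Set D)) := ⟨n, mem_centralizer_singleton_iff.2 hnz⟩ with hk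
    have h1 : k ∈ φ.ker := hker N hN ho (mem_subgroupOf.2 hn)
    have h6 := six k h1
    have hno : Odd (orderOf k) := by
      rw [hk, Subgroup.orderOf_mk]
      refine ho.of_dvd_nat ?_
      have := orderOf_dvd_natCard (⟨n, hn⟩ : ↥N)
      rwa [Subgroup.orderOf_mk] at this
    have h3 : k ^ 3 = 1 := by
      have h4 : orderOf k ∣ 2 * 3 := orderOf_dvd_of_pow_eq_one h6
      exact orderOf_dvd_iff_pow_eq_one.1 ((Nat.coprime_two_right.2 hno).dvd_of_dvd_mul_left h4)
    exact cen k h1 h3
  have hnil := nilpotent_of hzz hN ho hcen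
  -- the Sylow 3-subgroup of `N`
  have hx3 : x ^ 3 = 1 := by rw [← hx, pow_orderOf_eq_one]
  have hp : IsPGroup 3 (zpowers (⟨x, hxN⟩ : ↥N)) :=
    IsPGroup.of_card (n := 1) (by rw [Nat.card_zpowers, Subgroup.orderOf_mk, hx, pow_one])
  obtain ⟨P, hP⟩ := hp.exists_le_sylow
  have hPn : (P : Subgroup ↥N).Normal := inferInstance
  have hPc : (P : Subgroup ↥N).Characteristic := P.characteristic_of_normal hPn
  set R : Subgroup D := (P : Subgroup ↥N).map N.subtype with hR
  have hRn : R.Normal := inferInstance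
  have hRp : IsPGroup 3 R := P.2.map N.subtype
  have hxR : x ∈ R := ⟨⟨x, hxN⟩, hP (mem_zpowers _), rfl⟩
  have hRo : Odd (Nat.card R) := ho.of_dvd_nat (Subgroup.card_dvd_of_le (map_subtype_le _))
  -- its order
  have hRcard : Nat.card R ≤ 1594323 := by
    obtain ⟨m, hm⟩ := IsPGroup.iff_card.1 hRp
    have h1 : Nat.card X ∣ R.index := by
      have h2 : Nat.card X = φ.ker.index := by
        rw [Subgroup.index_ker, MonoidHom.range_eq_top.2 hφ, Subgroup.card_top]
      rw [h2]
      refine (Subgroup.index_dvd_of_le (hker R hRn hRo)).trans ?_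
      exact Subgroup.relIndex_dvd_index_of_normal R _
    have h2 : 3 ^ m * 3 ^ 7 ∣ Nat.card D := by
      rw [← R.card_mul_index, hm]
      refine Nat.mul_dvd_mul_left _ (Dvd.dvd.trans ?_ h1)
      rw [hXc]; norm_num
    have h3 : m ≤ 13 := by
      by_contra hcon
      apply hD
      refine Dvd.dvd.trans ?_ h2
      rw [← pow_add]
      exact pow_dvd_pow 3 (by omega)
    calc Nat.card R = 3 ^ m := hm
      _ ≤ 3 ^ 13 := Nat.pow_le_pow_right (by norm_num) h3
      _ = 1594323 := by norm_num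
  -- the centralizer of `x` in `C(z)`
  set CL : Subgroup ↥(centralizer ({z} : Set D)) := (centralizer ({x} : Set D)).subgroupOf _ with hCL
  have hCLo : Odd (Nat.card CL) := by
    refine hxo.of_dvd_nat ?_
    rw [← Subgroup.card_map_of_injective (Subgroup.subtype_injective (centralizer ({z} : Set D))), hCL,
      subgroupOf_map_subtype]
    exact Subgroup.card_dvd_of_le inf_le_left
  have hidx : CL.index ≤ Nat.card R := by
    let f : ↥(centralizer ({z} : Set D)) ⧸ CL → ↥R := Quotient.lift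
      (fun g => (⟨(g : D) * x * (g : D)⁻¹, hRn.conj_mem x hxR g⟩ : ↥R)) (by
        intro a b hab
        have h1 : a⁻¹ * b ∈ CL := QuotientGroup.leftRel_apply.1 hab
        have h2 : ((a : D)⁻¹ * b) * x = x * ((a : D)⁻¹ * b) := mem_centralizer_singleton_iff.1 (mem_subgroupOf.1 h1)
        apply Subtype.ext
        show (a : D) * x * (a : D)⁻¹ = b * x * (b : D)⁻¹
        calc (a : D) * x * (a : D)⁻¹ = a * (x * ((a : D)⁻¹ * b)) * (b : D)⁻¹ := by group
          _ = a * (((a : D)⁻¹ * b) * x) * (b : D)⁻¹ := by rw [h2]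
          _ = b * x * (b : D)⁻¹ := by group)
    have hf : Function.Injective f := by
      intro a b
      refine QuotientGroup.induction_on a fun a => QuotientGroup.induction_on b fun b => ?_
      intro hab
      have h1 : (a : D) * x * (a : D)⁻¹ = b * x * (b : D)⁻¹ := congrArg Subtype.val hab
      rw [QuotientGroup.eq]
      refine mem_subgroupOf.2 (mem_centralizer_singleton_iff.2 ?_)
      show ((a : D)⁻¹ * b) * x = x * ((a : D)⁻¹ * b)
      calc ((a : D)⁻¹ * b) * x = (a : D)⁻¹ * (b * x * (b : D)⁻¹) * b := by group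
        _ = (a : D)⁻¹ * (a * x * (a : D)⁻¹) * b := by rw [h1]
        _ = x * ((a : D)⁻¹ * b) := by group
    exact Nat.card_le_card_of_injective f hf
  -- its image in `Suz`
  have h1 : (CL.map φ).index ≤ 1594323 := by
    have h2 : (CL.map φ).index ∣ CL.index := Subgroup.index_map_dvd CL hφ
    have h3 : 0 < CL.index := Nat.pos_of_ne_zero Subgroup.index_ne_zero_of_finite
    exact (Nat.le_of_dvd h3 h2).trans (hidx.trans hRcard)
  exact no_odd_suz hX (CL.map φ) (hCLo.of_dvd_nat (Subgroup.card_map_dvd CL φ)) h1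

end Cfsg.Agent.H993.NoBadMAbs
end

-- part: H993/NoBadM
section
/-!
# The Monster has no bad element of order 3 (helper993)

* `exists_zero` : some element `x₀` of order 3 and fixed rank 0 of `C(z)` has a centralizer of index prime to 3 (after
  `H411.MThree`);
* `noBad_of_chart`, `noBad_M` : `IsoM K → NoBad 3 K`.
-/

set_option autoImplicit false
set_option maxRecDepth 100000

namespace Cfsg.Agent.H993.NoBadM

open Subgroup Cfsg
open Cfsg.Agent.MonsterU Cfsg.Agent.LThree Cfsg.Agent.LThreeMB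
open Cfsg.Agent.MonsterU.Ch
open Cfsg.Agent.MonsterU.Lam2 (L2 IsType)
open Cfsg.Spor (Co1)

universe u

local instance : Fact (Nat.Prime 3) := ⟨Nat.prime_three⟩

section gen

variable {G : Type u} [Group G]

theorem card_cent [Finite G] {x : G} {n : ℕ} (hx : orderOf x = 3) (hn : Nat.card (XX x) = n) :
    Nat.card ↥(centralizer ({x} : Set G)) = n * 3 := by
  rw [Subgroup.card_eq_card_quotient_mul_card_subgroup (Zx x), hn, Zx, Nat.card_zpowers]
  congr 1
  rw [← hx, ← Subgroup.orderOf_coe]
  rfl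

/-- an involution of `C(x)/⟨x⟩` commuting with the image of `d` gives an involution commuting with `d` -/
theorem exists_lift_inv {x d : G} (hx : orderOf x = 3) (hdx : d * x = x * d) {t : XX x} (ht : t * t = 1)
    (ht1 : t ≠ 1) (htd : t * mk x hdx = mk x hdx * t) : ∃ v : G, v * v = 1 ∧ v ≠ 1 ∧ v * d = d * v := by
  obtain ⟨s, hs, rfl⟩ := exists_mk t
  have hx3 : x ^ 3 = 1 := by rw [← hx, pow_orderOf_eq_one]
  -- membership in `⟨x⟩`
  have key : ∀ g : G, ∀ hg : g * x = x * g, mk x hg = 1 → ∃ i : ℤ, g = x ^ i := by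
    intro g hg h
    have h1 := (QuotientGroup.eq_one_iff _).1 h
    obtain ⟨i, hi⟩ := Subgroup.mem_zpowers_iff.1 h1
    exact ⟨i, (congrArg Subtype.val hi).symm⟩
  have hss : (s * s) * x = x * (s * s) := by rw [mul_assoc, hs, ← mul_assoc, hs, mul_assoc]
  obtain ⟨i, hi⟩ := key (s * s) hss ht
  have hxz : ∀ k : ℤ, (x ^ k) ^ 3 = 1 := by
    intro k
    rw [← zpow_natCast, ← zpow_mul, mul_comm, zpow_mul, zpow_natCast, hx3, one_zpow]
  have hx6 : ∀ k : ℤ, x ^ k * x ^ k = 1 → x ^ k = 1 := by
    intro k hk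
    have h1 := hxz k
    rw [pow_succ, pow_two, hk, one_mul] at h1
    exact h1
  set v := s ^ 3 with hv
  have hvv : v * v = 1 := by
    have h1 : v * v = (s * s) ^ 3 := by rw [hv, (Commute.refl s).mul_pow]
    rw [h1, hi, hxz]
  have hvx : v * x = x * v := by
    rw [hv]
    exact ((show Commute s x from hs).pow_left 3).eq
  have hmv : mk x hvx = mk x hs := by
    have h1 : mk x hvx = mk x hs * mk x hs * mk x hs := by
      show (QuotientGroup.mk _ : XX x) = QuotientGroup.mk _ * QuotientGroup.mk _ * QuotientGroup.mk _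
      rw [← QuotientGroup.mk_mul, ← QuotientGroup.mk_mul]
      congr 1
      exact Subtype.ext (by show s ^ 3 = s * s * s; rw [pow_succ, pow_two])
    rw [h1, ht, one_mul]
  refine ⟨v, hvv, ?_, ?_⟩
  · intro h1
    apply ht1
    rw [← hmv]
    have h2 : (⟨v, mem_centralizer_singleton_iff.2 hvx⟩ : ↥(centralizer ({x} : Set G))) = 1 := Subtype.ext h1
    show (QuotientGroup.mk (⟨v, mem_centralizer_singleton_iff.2 hvx⟩ : ↥(centralizer ({x} : Set G))) : XX x) = 1
    rw [h2, QuotientGroup.mk_one]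
  · have hcx : (v * d * v⁻¹ * d⁻¹) * x = x * (v * d * v⁻¹ * d⁻¹) := by
      have c1 : Commute v x := hvx
      have c2 : Commute d x := hdx
      exact (((c1.mul_left c2).mul_left c1.inv_left).mul_left c2.inv_left).eq
    obtain ⟨k, hk⟩ := key _ hcx (by
      have h1 : mk x hcx = mk x hvx * mk x hdx * (mk x hvx)⁻¹ * (mk x hdx)⁻¹ := by
        show (QuotientGroup.mk _ : XX x) = QuotientGroup.mk _ * QuotientGroup.mk _ * (QuotientGroup.mk _)⁻¹ *
          (QuotientGroup.mk _)⁻¹
        rw [← QuotientGroup.mk_inv, ← QuotientGroup.mk_inv, ← QuotientGroup.mk_mul, ← QuotientGroup.mk_mul,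
          ← QuotientGroup.mk_mul]
        rfl
      rw [h1, hmv, htd]
      group)
    have hv' : v⁻¹ = v := inv_eq_of_mul_eq_one_left hvv
    have h1 : v * d * v⁻¹ = x ^ k * d := by rw [← hk]; group
    have h2 : v * (v * d * v⁻¹) * v⁻¹ = d := by
      calc v * (v * d * v⁻¹) * v⁻¹ = (v * v) * d * (v * v)⁻¹ := by group
        _ = d := by rw [hvv]; group
    have c1 : Commute v (x ^ k) := (show Commute v x from hvx).zpow_right k
    have h3 : x ^ k * x ^ k * d = d := by
      calc x ^ k * x ^ k * d = x ^ k * (v * d * v⁻¹) := by rw [h1, mul_assoc]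
        _ = (v * x ^ k) * d * v⁻¹ := by rw [c1.eq]; group
        _ = v * (v * d * v⁻¹) * v⁻¹ := by rw [h1]; group
        _ = d := h2
    have h4 := hx6 k (mul_eq_right.1 h3)
    rw [h4, one_mul] at h1
    exact mul_inv_eq_iff_eq_mul.1 h1

end gen

section chart

variable {G : Type u} [Group G] {Q : Subgroup G} {z : G} {eta : G → L2}
  {pi : Subgroup.centralizer ({z} : Set G) →* Co1}

/-- **The elements of order 3 of `C(z)` by fixed ranks.** -/
theorem iso_of_rank [Finite G] [IsSimpleGroup G] (h : Chart Q z eta pi) (I : CoOne)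
    {x : Subgroup.centralizer ({z} : Set G)} (hx : orderOf x = 3) :
    (fr (pi x) = 2 ^ 8 → Spor.IsoTh (XX (x : G))) ∧ (fr (pi x) = 2 ^ 12 → Spor.IsoFi24' (XX (x : G))) := by
  constructor
  · intro hfr
    obtain ⟨s, hs, hfs, ⟨e⟩, hg, hf⟩ := I.nine
    obtain ⟨x', hx', hs', c, hc⟩ := exists_conj_to h hx hs (by rw [hfr]; exact I.eight) (by rw [hfs, hfr])
    subst hs'
    obtain ⟨-, ⟨f⟩⟩ := exists_XX_equiv hc
    exact isoTh_congr f (iso_th h hx' hfs (by rw [hfs]; exact I.eight) hf e hg)
  · intro hfr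
    obtain ⟨s, hs, hfs, ht, h4⟩ := I.psu
    obtain ⟨x', hx', hs', c, hc⟩ := exists_conj_to h hx hs (by rw [hfr]; exact I.twelve) (by rw [hfs, hfr])
    subst hs'
    obtain ⟨-, ⟨f⟩⟩ := exists_XX_equiv hc
    exact isoFi24_congr f (iso_fi24 h hx' hfs (by rw [hfs]; exact I.twelve) ht h4)

/-- **The 3-central elements are of fixed rank 0.** -/
theorem exists_zero [Finite G] [IsSimpleGroup G] (h : Chart Q z eta pi) (I : CoOne) (ht : TrNe z pi)
    (hpair : HasPair z pi)
    (hex : ∀ x : G, orderOf x = 3 → (∃ v : G, v * v = 1 ∧ v ≠ 1 ∧ v * x = x * v) →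
      ∃ g : G, (g * z * g⁻¹) * x = x * (g * z * g⁻¹))
    (hcard : 3 ^ 20 ∣ Nat.card G) : ∃ x₀ : Subgroup.centralizer ({z} : Set G), orderOf x₀ = 3 ∧ fr (pi x₀) = 1 ∧
      ¬ 3 ∣ (centralizer ({(x₀ : G)} : Set G)).index := by
  -- the element of fixed rank 12
  obtain ⟨s, hs, hfs, -, -⟩ := I.psu
  obtain ⟨x, hx, hxs⟩ := KPair.exists_order_three h hs
  have hxF : Spor.IsoFi24' (XX (x : G)) := (iso_of_rank h I hx).2 (by rw [hxs]; exact hfs)
  have hxo : orderOf (x : G) = 3 := by rw [Subgroup.orderOf_coe]; exact hx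
  -- Sylow subgroups
  have hzx : IsPGroup 3 (zpowers (self (x : G))) := IsPGroup.of_card (n := 1) (by
    rw [Nat.card_zpowers, ← Subgroup.orderOf_coe, pow_one]
    exact hxo)
  obtain ⟨T, hT⟩ := hzx.exists_le_sylow
  have hxT : self (x : G) ∈ (T : Subgroup _) := hT (mem_zpowers _)
  have hT' : IsPGroup 3 ((T : Subgroup ↥(centralizer ({(x : G)} : Set G))).map (centralizer ({(x : G)} : Set G)).subtype) :=
    T.2.map _
  obtain ⟨S, hS⟩ := hT'.exists_le_sylow
  have hSnt : Nontrivial ↥(S : Subgroup G) := by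
    refine ⟨⟨⟨(x : G), hS ⟨self (x : G), hxT, rfl⟩⟩, 1, ?_⟩⟩
    intro h1
    have h2 : (x : G) = 1 := congrArg Subtype.val h1
    rw [h2, orderOf_one] at hxo
    norm_num at hxo
  have hZnt : Nontrivial (center ↥(S : Subgroup G)) := S.2.center_nontrivial
  have hZ3 : 3 ∣ Nat.card (center ↥(S : Subgroup G)) := by
    obtain ⟨n, hn0, hn⟩ := (S.2.to_subgroup (center ↥(S : Subgroup G))).nontrivial_iff_card.1 hZnt
    rw [hn]
    exact dvd_pow_self 3 hn0.ne'
  obtain ⟨d0, hd0⟩ := exists_prime_orderOf_dvd_card' 3 hZ3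
  set d : G := ((d0 : ↥(S : Subgroup G)) : G) with hd
  have hn : orderOf d = 3 := by rw [hd, Subgroup.orderOf_coe, Subgroup.orderOf_coe, hd0]
  have hdc : ∀ s ∈ (S : Subgroup G), s * d = d * s := fun s hs =>
    congrArg Subtype.val (mem_center_iff.1 d0.2 ⟨s, hs⟩)
  have hidx : ¬ 3 ∣ (centralizer ({d} : Set G)).index := by
    intro h1
    have h2 : (S : Subgroup G) ≤ centralizer ({d} : Set G) := fun s hs => mem_centralizer_singleton_iff.2 (hdc s hs)
    exact S.not_dvd_index (h1.trans (index_dvd_of_le h2))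
  have hdcard : 3 ^ 20 ∣ Nat.card ↥(centralizer ({d} : Set G)) := by
    refine Nat.Coprime.dvd_of_dvd_mul_right (k := 3 ^ 20) (n := (centralizer ({d} : Set G)).index) ?_ ?_
    · exact Nat.Coprime.pow_left 20 ((Nat.Prime.coprime_iff_not_dvd Nat.prime_three).2 hidx)
    · rw [Subgroup.card_mul_index]; exact hcard
  -- `d` commutes with an involution
  have hdx : d * (x : G) = x * d := (hdc _ (hS ⟨self (x : G), hxT, rfl⟩)).symm
  have hdinv : ∃ v : G, v * v = 1 ∧ v ≠ 1 ∧ v * d = d * v := by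
    have hfX : Finite (XX (x : G)) := Quotient.finite _
    have h1 : ¬ 3 ∣ (centralizer ({mk (x : G) hdx} : Set (XX (x : G)))).index := by
      intro h2
      have h3 : (T : Subgroup ↥(centralizer ({(x : G)} : Set G))).map (QuotientGroup.mk' (Zx (x : G))) ≤
          centralizer ({mk (x : G) hdx} : Set (XX (x : G))) := by
        rintro _ ⟨τ, hτ, rfl⟩
        rw [mem_centralizer_singleton_iff]
        have h4 : τ * ⟨d, mem_centralizer_singleton_iff.2 hdx⟩ = ⟨d, mem_centralizer_singleton_iff.2 hdx⟩ * τ :=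
          Subtype.ext (hdc _ (hS ⟨τ, hτ, rfl⟩))
        exact congrArg (QuotientGroup.mk' (Zx (x : G))) h4
      exact (T.mapSurjective (QuotientGroup.mk'_surjective (Zx (x : G)))).not_dvd_index (h2.trans (index_dvd_of_le h3))
    obtain ⟨τ, h2, h3, h4⟩ := H411.FiCent.exists_inv_of_iso hxF h1
    exact exists_lift_inv hxo hdx h2 h3 h4
  obtain ⟨g, hg⟩ := hex d hn hdinv
  -- a conjugate of `d` in `C(z)`
  have hd'z : (g⁻¹ * d * g) * z = z * (g⁻¹ * d * g) := by
    calc (g⁻¹ * d * g) * z = g⁻¹ * (d * (g * z * g⁻¹)) * g := by group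
      _ = g⁻¹ * ((g * z * g⁻¹) * d) * g := by rw [hg]
      _ = z * (g⁻¹ * d * g) := by group
  let d' : centralizer ({z} : Set G) := ⟨g⁻¹ * d * g, mem_centralizer_singleton_iff.2 hd'z⟩
  have hgd : g * (d' : G) * g⁻¹ = d := by
    show g * (g⁻¹ * d * g) * g⁻¹ = d
    group
  have hd' : orderOf d' = 3 := by
    rw [← Subgroup.orderOf_coe, ← hn, ← hgd]
    exact (orderOf_injective (MulAut.conj g).toMonoidHom (MulAut.conj g).injective (d' : G)).symm
  have hd'o : orderOf (d' : G) = 3 := by rw [Subgroup.orderOf_coe]; exact hd'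
  have hd'card : 3 ^ 20 ∣ Nat.card ↥(centralizer ({(d' : G)} : Set G)) := by
    obtain ⟨⟨e⟩, -⟩ := exists_XX_equiv hgd
    rw [Nat.card_congr e.toEquiv]
    exact hdcard
  -- transport of the index
  have htr : ∀ {x₀ : Subgroup.centralizer ({z} : Set G)} {k : G}, k * (d' : G) * k⁻¹ = x₀ →
      ¬ 3 ∣ (centralizer ({(x₀ : G)} : Set G)).index := by
    intro x₀ k hk
    have hkd : (k * g⁻¹) * d * (k * g⁻¹)⁻¹ = x₀ := by
      rw [← hk, ← hgd]; group
    have h1 : (centralizer ({(x₀ : G)} : Set G)).index = (centralizer ({d} : Set G)).index := by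
      obtain ⟨⟨e⟩, -⟩ := exists_XX_equiv hkd
      have h2 := Subgroup.card_mul_index (centralizer ({(x₀ : G)} : Set G))
      have h3 := Subgroup.card_mul_index (centralizer ({d} : Set G))
      rw [Nat.card_congr e.toEquiv] at h3
      exact Nat.eq_of_mul_eq_mul_left Nat.card_pos (h2.trans h3.symm)
    rw [h1]
    exact hidx
  have h812 : ∀ x : Subgroup.centralizer ({z} : Set G), orderOf x = 3 → (fr (pi x) = 2 ^ 8 ∨ fr (pi x) = 2 ^ 12) →
      IsSimpleGroup (XX (x : G)) ∧ Subgroup.center (XX (x : G)) ≠ ⊤ := fun x hx h2 =>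
    ⟨(good_of_inputs h I hx h2).simple, (good_of_inputs h I hx h2).nc⟩
  rcases I.ranks (pi d') (orderOf_pi h hd') with h1 | h1 | h1 | h1
  · exact ⟨d', hd', h1, htr (k := 1) (by group)⟩
  · obtain ⟨x₀, u, g₀, hx₀, hfr₀, huz, hux, hne, hg₀⟩ := hpair
    obtain ⟨k, hk⟩ := conj_six h ht I.ranks I.six h812 hx₀ hfr₀ huz hux hne hg₀ hd' h1
    exact ⟨x₀, hx₀, hfr₀, htr hk⟩
  · exfalso
    obtain ⟨e⟩ := (iso_of_rank h I hd').1 h1
    have h2 := card_cent hd'o ((Nat.card_congr e.toEquiv).trans Cfsg.Agent.S1700.result.2)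
    rw [h2] at hd'card
    revert hd'card
    norm_num
  · exfalso
    obtain ⟨e⟩ := (iso_of_rank h I hd').2 h1
    have h2 := card_cent hd'o ((Nat.card_congr e.toEquiv).trans Cfsg.Agent.S1698.result.2)
    rw [h2] at hd'card
    revert hd'card
    norm_num

/-- **The theorem for a group with a chart.** -/
theorem noBad_of_chart [Finite G] [IsSimpleGroup G] (h : Chart Q z eta pi) (I : CoOne) (ht : TrNe z pi)
    (hpair : HasPair z pi)
    (hex : ∀ x : G, orderOf x = 3 → (∃ v : G, v * v = 1 ∧ v ≠ 1 ∧ v * x = x * v) →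
      ∃ g : G, (g * z * g⁻¹) * x = x * (g * z * g⁻¹))
    (hcard : 3 ^ 20 ∣ Nat.card G) (hcard' : ¬ 3 ^ 21 ∣ Nat.card G) (hZ : center G = ⊥)
    (hb : ∀ t : G, orderOf t = 2 → centralizerPPrimeCore 2 t = ⊥) : H470.NoBad 3 G := by
  intro y0 hy0
  obtain ⟨x₀, hx₀, hfr₀, hidx⟩ := exists_zero h I ht hpair hex hcard
  have hx₀o : orderOf (x₀ : G) = 3 := by rw [Subgroup.orderOf_coe]; exact hx₀
  have hx₀3 : x₀ ^ 3 = 1 := by rw [← hx₀, pow_orderOf_eq_one]
  have hxG : (x₀ : G) ^ 3 = 1 := congrArg Subtype.val hx₀3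
  have hz2 : z * z = 1 := h.large.z_sq
  have hxz : Commute (x₀ : G) z := mem_centralizer_singleton_iff.1 x₀.2
  -- the centralizer is proper
  have hne : centralizer ({(x₀ : G)} : Set G) ≠ ⊤ := by
    intro h1
    have h2 : (x₀ : G) ∈ center G := by
      rw [mem_center_iff]
      intro g
      have h3 : g ∈ centralizer ({(x₀ : G)} : Set G) := by rw [h1]; exact mem_top _
      exact mem_centralizer_singleton_iff.1 h3
    rw [hZ, mem_bot] at h2
    rw [h2, orderOf_one] at hx₀o
    norm_num at hx₀o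
  obtain ⟨g, N, hNle, hNn, hNo, hgN⟩ := hy0.exists_normal Nat.prime_three hne hidx
  have hy := hy0.conj g
  set y : G := g * y0 * g⁻¹ with hyd
  have hyD : y ∈ centralizer ({(x₀ : G)} : Set G) := hNle hgN
  have hyo := hy.odd_centralizer (by norm_num) hZ hb
  have hzo : orderOf (zD x₀) = 2 := by
    rw [← Subgroup.orderOf_coe]
    exact LargeExtra.Base.orderOf_z h.large
  have hN' : (N.subgroupOf (centralizer ({(x₀ : G)} : Set G))).Normal := ⟨fun n hn g => by
    rw [mem_subgroupOf] at hn ⊢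
    exact hNn g g.2 n hn⟩
  have hNc : Nat.card (N.subgroupOf (centralizer ({(x₀ : G)} : Set G))) = Nat.card N :=
    Nat.card_congr (Subgroup.subgroupOfEquivOfLe hNle).toEquiv
  refine NoBadMAbs.main_abs (z := zD x₀) hzo (I.suz (pi x₀) (orderOf_pi h hx₀) hfr₀) (φ := toXX pi x₀)
    (toXX_surj h hx₀3) (LThreeBX.Main.ker h hx₀3 hfr₀).six ?_ ?_ hN' (by rw [hNc]; exact hNo) (x := ⟨y, hyD⟩) ?_ ?_ ?_
  · intro k hk hk3
    have hk3' : ((k : ↥(centralizer ({(x₀ : G)} : Set G))) : G) ^ 3 = 1 :=
      congrArg (fun g : ↥(centralizer ({zD x₀} : Set ↥(centralizer ({(x₀ : G)} : Set G)))) =>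
        ((g : ↥(centralizer ({(x₀ : G)} : Set G))) : G)) hk3
    rw [Subgroup.mem_center_iff]
    intro g
    apply Subtype.ext
    show (g : G) * ((k : ↥(centralizer ({(x₀ : G)} : Set G))) : G) =
      ((k : ↥(centralizer ({(x₀ : G)} : Set G))) : G) * g
    have hgx : Commute (g : G) (x₀ : G) := mem_centralizer_singleton_iff.1 g.2
    obtain ⟨i, hi | hi⟩ := LThreeBX.Main.ker_form h hx₀3 hfr₀ hk
    · rw [hi]; exact (hgx.zpow_right i).eq
    · exfalso
      apply h.large.z_ne
      have h3 : ((x₀ : G) ^ i) ^ 3 = 1 := by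
        rw [← zpow_natCast, ← zpow_mul, mul_comm, zpow_mul, zpow_natCast, hxG, one_zpow]
      rw [hi, (hxz.zpow_left i).mul_pow, h3, one_mul, pow_succ, pow_two, hz2, one_mul] at hk3'
      exact hk3'
  · intro h1
    exact hcard' (h1.trans (Subgroup.card_subgroup_dvd_card _))
  · rw [Subgroup.orderOf_mk]
    exact hy.ord
  · exact mem_subgroupOf.2 hgN
  · refine hyo.of_dvd_nat ?_
    let f : ↥(centralizer ({(⟨y, hyD⟩ : ↥(centralizer ({(x₀ : G)} : Set G)))} :
        Set ↥(centralizer ({(x₀ : G)} : Set G)))) →* ↥(centralizer ({y} : Set G)) :=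
      ((centralizer ({(x₀ : G)} : Set G)).subtype.comp (Subgroup.subtype _)).codRestrict _ fun c =>
        mem_centralizer_singleton_iff.2 (congrArg Subtype.val (mem_centralizer_singleton_iff.1 c.2))
    have hf : Function.Injective f := by
      intro a b hab
      have h1 : ((a : ↥(centralizer ({(x₀ : G)} : Set G))) : G) = ((b : ↥(centralizer ({(x₀ : G)} : Set G))) : G) :=
        congrArg (fun c : ↥(centralizer ({y} : Set G)) => (c : G)) hab
      exact Subtype.ext (Subtype.ext h1)
    exact Subgroup.card_dvd_of_injective f hf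

end chart

/-! ### The model -/

open Cfsg.Agent.MonsterX Cfsg.Agent.MonsterX.InstData Cfsg.Agent.MonsterX.MainPack
open Cfsg.Agent.MonsterP Cfsg.Agent.MonsterN
open Cfsg.Agent.MonsterX.MainBasic Cfsg.Agent.MonsterX.MainSimple Cfsg.Agent.MonsterX.Model

theorem noBad_model : H470.NoBad 3 ↥InstData.M.G := by
  have := Row.finite_model
  have hs := Row.simple_model
  obtain ⟨A, B, F⟩ := LThreeM.SigRow.facts_model
  have hZ : center ↥InstData.M.G = ⊥ := by
    rcases hs.eq_bot_or_eq_top_of_normal (center ↥InstData.M.G) inferInstance with h1 | h1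
    · exact h1
    · exfalso
      have hmc : IsMulCommutative ↥InstData.M.G := ⟨⟨fun a b => by
        have : b ∈ center ↥InstData.M.G := by rw [h1]; trivial
        exact (mem_center_iff.1 this a)⟩⟩
      have hp : (Nat.card ↥InstData.M.G).Prime := Group.is_simple_iff_prime_card.1 hs
      rw [F.card] at hp
      exact absurd hp (by norm_num)
  refine noBad_of_chart (KChart.chart KDone.lft Row.cent) CoOneFin.coOne
    (KPair.trNe KDone.lft Row.cent (LThreeMBTr.traceNe KDone.lft LThreeMBTr.TensK.tens))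
    (KPair.hasPair KDone.lft Row.cent Row.second COct.octPair) ?_ ?_ ?_ hZ CTwoTab.Monster.model.bal
  · rintro x hx ⟨v, hv, hv1, hc⟩
    exact LThreeM.FiRow.exists_z_of_comm (by rw [← hx, pow_orderOf_eq_one]) hv hv1 hc.symm
  · rw [F.card]
    norm_num
  · rw [F.card]
    norm_num

/-- **The Monster has no bad element of order 3.** -/
theorem noBad_M {K : Type*} [Group K] (h : Cfsg.Spor.IsoM K) : H470.NoBad 3 K := by
  obtain ⟨e⟩ := h
  obtain ⟨f⟩ := Cfsg.Agent.MonsterP.Equiv.equiv
  exact noBad_model.congr (e.trans f).symm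

end Cfsg.Agent.H993.NoBadM
end

private theorem dce_30d5621b1505 : _root_.True := by
  try have : _root_.True := by simp only [_root_.Cfsg.Agent.LThreeMB.mk.congr_simp]
  exact _root_.True.intro
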