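import Mathlib
import Cfsg.Agent.H498.Ab.RowU
import Cfsg.Agent.H662.ChermakDelgado
import Cfsg.Agent.OrdDiv.Core
import Cfsg.Agent.H805.NilSp_m3
import Cfsg.Agent.FastGrp
import Cfsg.Agent.Prune
set_option linter.all false
prune_inst 0x7f00000000000000000000000000000000000000000000000000000000000000000000000000000000000000000000000000000000000000000000000000000000000000000000000000000000000000003fffffffffffffffffffffffffffbeffbdffffffff
open scoped Cfsg.Agent.FastGrp

/-!
# Orders of abelian subgroups: tools for the sporadic rows of S2501 (helper993)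

* `Fb m G` : `m` divides the order of no abelian subgroup of `G`; `fb_of_cent`, `fb_of_full`, `fb_of_noComm`;
* `At3 p G` : the abelian subgroups `A` of order divisible by `p` satisfy `|A| ^ 3 < |G|`; `at3_of_cent`;
* `abLE_of_normal` : the Chermak-Delgado bound `|A| ^ 2 ≤ |L| |H|`, `L` abelian and normal in `H`;
* `ab3_of_chk` : `Ab3 G` from `Fb`, `At3` and a check over the divisors of `|G|`.
-/

set_option autoImplicit false

namespace Cfsg.Agent.H993.AbTool

open Subgroup Cfsg.Agent.H498.Ab Cfsg.Agent.OrdDiv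

/-- `m` divides the order of no abelian subgroup -/
def Fb (m : ℕ) (G : Type*) [Group G] : Prop := ∀ A : Subgroup G, IsMulCommutative A → ¬ m ∣ Nat.card A

/-- the abelian subgroups of order divisible by `p` -/
def At3 (p : ℕ) (G : Type*) [Group G] : Prop :=
  ∀ A : Subgroup G, IsMulCommutative A → p ∣ Nat.card A → Nat.card A ^ 3 < Nat.card G

section

variable {G : Type*} [Group G] [Finite G]

omit [Finite G] in
theorem Fb.mono {m n : ℕ} (h : Fb m G) (hmn : m ∣ n) : Fb n G := fun A hA hd => h A hA (hmn.trans hd)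

/-- an abelian subgroup of order divisible by `p` lies in the centralizer of an element of order `p` -/
theorem exists_le_cent {p : ℕ} (hp : p.Prime) {A : Subgroup G} (hA : IsMulCommutative A) (hd : p ∣ Nat.card A) :
    ∃ x : G, orderOf x = p ∧ x ∈ A ∧ A ≤ centralizer ({x} : Set G) := by
  have : Fact p.Prime := ⟨hp⟩
  obtain ⟨x, hx⟩ := exists_prime_orderOf_dvd_card' p hd
  refine ⟨x, by rw [Subgroup.orderOf_coe]; exact hx, x.2, fun a ha => ?_⟩
  rw [mem_centralizer_singleton_iff]
  exact comm_iff.1 hA a ha x x.2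

theorem fb_of_cent {p m : ℕ} (hp : p.Prime) (hpm : p ∣ m)
    (h : ∀ x : G, orderOf x = p → ¬ m ∣ Nat.card ↥(centralizer ({x} : Set G))) : Fb m G := by
  intro A hA hd
  obtain ⟨x, hx, -, hle⟩ := exists_le_cent hp hA (hpm.trans hd)
  exact h x hx (hd.trans (Subgroup.card_dvd_of_le hle))

theorem fb_of_noComm {p q : ℕ} (hp : p.Prime) (hq : q.Prime)
    (h : ∀ x y : G, orderOf x = p → orderOf y = q → x * y ≠ y * x) : Fb (p * q) G := by
  refine fb_of_cent hp (dvd_mul_right p q) fun x hx hd => ?_
  have : Fact q.Prime := ⟨hq⟩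
  obtain ⟨y, hy⟩ := exists_prime_orderOf_dvd_card' q ((dvd_mul_left q p).trans hd)
  exact h x y hx (by rw [Subgroup.orderOf_coe]; exact hy) (mem_centralizer_singleton_iff.1 y.2).symm

/-- The Sylow `p`-subgroups are not abelian if the centralizer of some element of order `p` has not the full `p`-part. -/
theorem fb_of_full {p e : ℕ} (hp : p.Prime) (he : ¬ p ^ (e + 1) ∣ Nat.card G) {t : G} (ht : orderOf t = p)
    (hc : ¬ p ^ e ∣ Nat.card ↥(centralizer ({t} : Set G))) : Fb (p ^ e) G := by
  intro A hA hd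
  have : Fact p.Prime := ⟨hp⟩
  obtain ⟨Q, hQ⟩ := Sylow.exists_subgroup_card_pow_prime (G := A) p hd
  have h1 : Nat.card (Q.map A.subtype) = p ^ e := by
    rw [← hQ]
    exact Nat.card_congr (Subgroup.equivMapOfInjective Q A.subtype (Subgroup.subtype_injective _)).symm.toEquiv
  have hQp : IsPGroup p (Q.map A.subtype) := IsPGroup.of_card h1
  obtain ⟨P, hP⟩ := hQp.exists_le_sylow
  have h2 : Nat.card P ∣ p ^ e := by
    obtain ⟨k, hk⟩ := IsPGroup.iff_card.1 P.2
    have h3 : k ≤ e := by
      by_contra hcon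
      apply he
      exact (pow_dvd_pow p (by omega)).trans (hk ▸ Subgroup.card_subgroup_dvd_card (P : Subgroup G))
    rw [hk]
    exact pow_dvd_pow p h3
  have h3 : (Q.map A.subtype) = P := by
    refine Subgroup.eq_of_le_of_card_ge hP ?_
    rw [h1]
    exact Nat.le_of_dvd (pow_pos hp.pos e) h2
  have hzt : IsPGroup p (zpowers t) := IsPGroup.of_card (n := 1) (by rw [Nat.card_zpowers, ht, pow_one])
  obtain ⟨R, hR⟩ := hzt.exists_le_sylow
  obtain ⟨g, hg⟩ := MulAction.exists_smul_eq G P R
  apply hc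
  have h4 : (R : Subgroup G) ≤ centralizer ({t} : Set G) := by
    intro r hr
    have htR : t ∈ (R : Subgroup G) := hR (mem_zpowers t)
    rw [← hg] at hr htR
    obtain ⟨a, ha, rfl⟩ := hr
    obtain ⟨b, hb, rfl⟩ := htR
    rw [mem_centralizer_singleton_iff]
    have ha' : a ∈ A := by
      have : a ∈ Q.map A.subtype := by rw [h3]; exact ha
      exact Subgroup.map_subtype_le _ this
    have hb' : b ∈ A := by
      have : b ∈ Q.map A.subtype := by rw [h3]; exact hb
      exact Subgroup.map_subtype_le _ this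
    have hab := comm_iff.1 hA a ha' b hb'
    show g * a * g⁻¹ * (g * b * g⁻¹) = g * b * g⁻¹ * (g * a * g⁻¹)
    calc g * a * g⁻¹ * (g * b * g⁻¹) = g * (a * b) * g⁻¹ := by group
      _ = g * (b * a) * g⁻¹ := by rw [hab]
      _ = g * b * g⁻¹ * (g * a * g⁻¹) := by group
  have h5 : Nat.card R = p ^ e := by
    rw [← h1, h3, Sylow.card_eq_multiplicity, Sylow.card_eq_multiplicity]
  rw [← h5]
  exact Subgroup.card_dvd_of_le h4

theorem at3_of_cent {p b : ℕ} (hp : p.Prime) (hb : b ^ 3 < Nat.card G)
    (h : ∀ x : G, orderOf x = p → AbLE b ↥(centralizer ({x} : Set G))) : At3 p G := by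
  intro A hA hd
  obtain ⟨x, hx, hxA, -⟩ := exists_le_cent hp hA hd
  exact (Nat.pow_le_pow_left (card_le_of_mem (h x hx) hA hxA) 3).trans_lt hb

theorem at3_of_card {p b : ℕ} (hp : p.Prime) (hb : b ^ 3 < Nat.card G)
    (h : ∀ x : G, orderOf x = p → Nat.card ↥(centralizer ({x} : Set G)) ≤ b) : At3 p G :=
  at3_of_cent hp hb fun x hx => abLE_of_card_le (h x hx)

/-- **The Chermak-Delgado bound.** -/
theorem abLE_of_normal {l b : ℕ}
    (hl : ∀ L : Subgroup G, L.Normal → (∀ a ∈ L, ∀ c ∈ L, a * c = c * a) → Nat.card L ≤ l)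
    (hb : l * Nat.card G < (b + 1) ^ 2) : AbLE b G := by
  intro A hA
  obtain ⟨L, hL, hLab, hLi⟩ := H662.ChermakDelgado.exists_characteristic A (comm_iff.1 hA)
  have hLn : L.Normal := inferInstance
  have h0 := hl L hLn hLab
  have h1 := A.card_mul_index
  have h2 := L.card_mul_index
  have h3 : 0 < Nat.card G := Nat.card_pos
  -- `|A|² |G| ≤ |A|² |L| [G : A]² = |L| |G|²`
  have h4 : Nat.card A ^ 2 ≤ l * Nat.card G := by
    have h5 : Nat.card A ^ 2 * Nat.card G ≤ (l * Nat.card G) * Nat.card G := by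
      calc Nat.card A ^ 2 * Nat.card G = Nat.card A ^ 2 * (Nat.card L * L.index) := by rw [h2]
        _ ≤ Nat.card A ^ 2 * (l * A.index ^ 2) := Nat.mul_le_mul_left _ (Nat.mul_le_mul h0 hLi)
        _ = l * (Nat.card A * A.index) * (Nat.card A * A.index) := by ring
        _ = (l * Nat.card G) * Nat.card G := by rw [h1]
    exact Nat.le_of_mul_le_mul_right h5 h3
  by_contra h
  push Not at h
  have h5 : (b + 1) ^ 2 ≤ Nat.card A ^ 2 := Nat.pow_le_pow_left h 2
  omega

/-- `G` onto a nonabelian simple group with a small kernel -/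
theorem abLE_of_simple {S : Type*} [Group S] [IsSimpleGroup S] (hS : ∃ a b : S, a * b ≠ b * a) {f : G →* S}
    (hf : Function.Surjective f) {k b : ℕ} (hk : Nat.card f.ker ≤ k) (hb : k * Nat.card G < (b + 1) ^ 2) :
    AbLE b G := by
  refine abLE_of_normal (l := k) (fun L hL hab => ?_) hb
  rcases (hL.map f hf).eq_bot_or_eq_top with h | h
  · exact (Subgroup.card_le_of_le ((Subgroup.map_eq_bot_iff _).1 h)).trans hk
  · exfalso
    obtain ⟨a, b, hne⟩ := hS
    obtain ⟨a', ha', rfl⟩ : a ∈ L.map f := by rw [h]; trivial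
    obtain ⟨b', hb', rfl⟩ : b ∈ L.map f := by rw [h]; trivial
    apply hne
    rw [← map_mul, ← map_mul, hab a' ha' b' hb']

end

/-! ### The check -/

/-- all divisors of `prodl l` -/
def divl : List (ℕ × ℕ) → List ℕ
  | [] => [1]
  | x :: l => (divl l).flatMap fun d => (List.range (x.2 + 1)).map fun i => d * x.1 ^ i

theorem mem_divl : ∀ {l : List (ℕ × ℕ)}, (∀ x ∈ l, (x.1).Prime) → ∀ {n : ℕ}, n ∣ prodl l → n ∈ divl l
  | [], _, n, h => by
    have h1 : n ∣ 1 := by simpa [prodl] using h
    rw [Nat.dvd_one] at h1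
    simp [divl, h1]
  | x :: l, hl, n, h => by
    have h1 : prodl (x :: l) = x.1 ^ x.2 * prodl l := by simp [prodl]
    rw [h1] at h
    obtain ⟨a, b, ha, hb, rfl⟩ := exists_dvd_and_dvd_of_dvd_mul h
    obtain ⟨i, hi, rfl⟩ := (Nat.dvd_prime_pow (hl x List.mem_cons_self)).1 ha
    unfold divl
    rw [List.mem_flatMap]
    refine ⟨b, mem_divl (fun y hy => hl y (List.mem_cons_of_mem _ hy)) hb, ?_⟩
    rw [List.mem_map]
    exact ⟨i, List.mem_range.2 (by omega), by rw [mul_comm]⟩

/-- the check: each divisor is small, or divisible by an element of `S` or of `P` -/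
def chk (l : List (ℕ × ℕ)) (N : ℕ) (S P : List ℕ) : Bool :=
  (divl l).all fun n => Nat.blt (n ^ 3) N || S.any (fun p => n % p == 0) || P.any (fun m => n % m == 0)

/-- **The criterion.** -/
theorem ab3_of_chk {G : Type*} [Group G] [Finite G] {N : ℕ} (hG : Nat.card G = N) (l : List (ℕ × ℕ))
    (hv : valid l N = true) (S P : List ℕ) (hS : ∀ p ∈ S, At3 p G) (hP : ∀ m ∈ P, Fb m G)
    (hc : chk l N S P = true) : Ab3 G := by
  intro A hA
  have h1 : Nat.card A ∈ divl l := by
    refine mem_divl (valid_prime hv) ?_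
    rw [valid_prod hv, ← hG]
    exact Subgroup.card_subgroup_dvd_card A
  unfold chk at hc
  rw [List.all_eq_true] at hc
  have h2 := hc _ h1
  rw [Bool.or_eq_true, Bool.or_eq_true] at h2
  rcases h2 with (h2 | h2) | h2
  · rw [hG]
    rwa [Nat.blt_eq] at h2
  · rw [List.any_eq_true] at h2
    obtain ⟨p, hp, h3⟩ := h2
    exact hS p hp A hA (Nat.dvd_of_mod_eq_zero (by simpa only [_root_.beq_iff_eq] using h3))
  · rw [List.any_eq_true] at h2
    obtain ⟨m, hm, h3⟩ := h2
    exact absurd (Nat.dvd_of_mod_eq_zero (by simpa only [_root_.beq_iff_eq] using h3)) (hP m hm A hA)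

/-- forbidden divisors of a subgroup -/
theorem Fb.sub {G : Type*} [Group G] {m : ℕ} (h : Fb m G) (H : Subgroup G) : Fb m ↥H := by
  intro A hA hd
  refine h (A.map H.subtype) (comm_map _ hA) ?_
  rwa [Subgroup.card_map_of_injective H.subtype_injective]

theorem Fb.congr {G H : Type*} [Group G] [Group H] {m : ℕ} (e : G ≃* H) (h : Fb m G) : Fb m H := by
  intro A hA hd
  refine h (A.map (e.symm : H →* G)) (comm_map _ hA) ?_
  rwa [Subgroup.card_map_of_injective e.symm.injective]

/-! ### Centralizer orders -/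

/-- the orders of the centralizers of the elements of order `p` divide elements of `L` -/
def CD (p : ℕ) (L : List ℕ) (G : Type*) [Group G] : Prop :=
  ∀ x : G, orderOf x = p → ∃ c ∈ L, Nat.card ↥(centralizer ({x} : Set G)) ∣ c

theorem card_cent_equiv' {G H : Type*} [Group G] [Group H] (e : G ≃* H) (x : G) :
    Nat.card ↥(centralizer ({e x} : Set H)) = Nat.card ↥(centralizer ({x} : Set G)) := by
  symm
  refine Nat.card_congr (Equiv.subtypeEquiv e.toEquiv fun y => ?_)
  show y ∈ centralizer ({x} : Set G) ↔ e y ∈ centralizer ({e x} : Set H)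
  rw [mem_centralizer_singleton_iff, mem_centralizer_singleton_iff, ← map_mul, ← map_mul, e.injective.eq_iff]

theorem CD.congr {G H : Type*} [Group G] [Group H] {p : ℕ} {L : List ℕ} (e : G ≃* H) (h : CD p L G) : CD p L H := by
  intro x hx
  obtain ⟨c, hc, hd⟩ := h (e.symm x) (by rw [MulEquiv.orderOf_eq]; exact hx)
  refine ⟨c, hc, ?_⟩
  rw [← card_cent_equiv' e.symm x]
  exact hd

/-- Sylow arithmetic: the possible orders of the centralizer of an element of prime order `s`, `s ∥ N` -/
def sylL (l : List (ℕ × ℕ)) (N s : ℕ) : List ℕ :=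
  (divl l).filter fun c => (List.range s).any fun e =>
    (s - 1) % e == 0 && e != 1 && e != 0 && N % (c * e) == 0 && (N / (c * e)) % s == 1 % s

/-! ### The general check -/

/-- the orders of the abelian subgroups divisible by `m` divide elements of `L` -/
def CA (m : ℕ) (L : List ℕ) (G : Type*) [Group G] : Prop :=
  ∀ A : Subgroup G, IsMulCommutative A → m ∣ Nat.card A → ∃ c ∈ L, Nat.card A ∣ c

theorem CA.congr {G H : Type*} [Group G] [Group H] {m : ℕ} {L : List ℕ} (e : G ≃* H) (h : CA m L G) : CA m L H := by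
  intro A hA hd
  obtain ⟨c, hc, hcd⟩ := h (A.map (e.symm : H →* G)) (comm_map _ hA) (by
    rwa [Subgroup.card_map_of_injective e.symm.injective])
  rw [Subgroup.card_map_of_injective e.symm.injective] at hcd
  exact ⟨c, hc, hcd⟩

theorem Fb.ca {G : Type*} [Group G] {m : ℕ} (h : Fb m G) : CA m [] G := fun A hA hd => absurd hd (h A hA)

theorem CD.ca {G : Type*} [Group G] [Finite G] {p : ℕ} {L : List ℕ} (hp : p.Prime) (h : CD p L G) : CA p L G := by
  intro A hA hd
  obtain ⟨x, hx, -, hle⟩ := exists_le_cent hp hA hd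
  obtain ⟨c, hc, hcd⟩ := h x hx
  exact ⟨c, hc, (Subgroup.card_dvd_of_le hle).trans hcd⟩

/-- one bound for all the centralizers -/
theorem ca_of_cent {G : Type*} [Group G] [Finite G] {p c : ℕ} (hp : p.Prime)
    (h : ∀ x : G, orderOf x = p → Nat.card ↥(centralizer ({x} : Set G)) ∣ c) : CA p [c] G :=
  CD.ca hp fun x hx => ⟨c, List.mem_singleton_self c, h x hx⟩

/-- two primes: from the orders of `C(x) ∩ C(y)` -/
theorem ca_of_two {G : Type*} [Group G] [Finite G] {p q : ℕ} {L : List ℕ} (hp : p.Prime) (hq : q.Prime)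
    (h : ∀ x y : G, orderOf x = p → orderOf y = q → x * y = y * x →
      ∃ c ∈ L, Nat.card ↥(centralizer ({x} : Set G) ⊓ centralizer ({y} : Set G) : Subgroup G) ∣ c) :
    CA (p * q) L G := by
  intro A hA hd
  obtain ⟨x, hx, hxA, hle⟩ := exists_le_cent hp hA ((dvd_mul_right p q).trans hd)
  obtain ⟨y, hy, hyA, hle'⟩ := exists_le_cent hq hA ((dvd_mul_left q p).trans hd)
  obtain ⟨c, hc, hcd⟩ := h x y hx hy (comm_iff.1 hA x hxA y hyA)
  exact ⟨c, hc, (Subgroup.card_dvd_of_le (le_inf hle hle')).trans hcd⟩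

/-- bounds -/
theorem ca_of_abLE {G : Type*} [Group G] [Finite G] {p b : ℕ} (hp : p.Prime)
    (h : ∀ x : G, orderOf x = p → AbLE b ↥(centralizer ({x} : Set G))) :
    ∀ A : Subgroup G, IsMulCommutative A → p ∣ Nat.card A → Nat.card A ≤ b := by
  intro A hA hd
  obtain ⟨x, hx, hxA, -⟩ := exists_le_cent hp hA hd
  exact card_le_of_mem (h x hx) hA hxA

/-- the general check -/
def chk3 (l : List (ℕ × ℕ)) (N : ℕ) (D : List (ℕ × List ℕ)) : Bool :=
  (divl l).all fun n => Nat.blt (n ^ 3) N || D.any (fun d => n % d.1 == 0 && d.2.all (fun c => c % n != 0))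

/-- **The general criterion.** -/
theorem ab3_of_chk3 {G : Type*} [Group G] [Finite G] {N : ℕ} (hG : Nat.card G = N) (l : List (ℕ × ℕ))
    (hv : valid l N = true) (D : List (ℕ × List ℕ)) (hD : ∀ d ∈ D, CA d.1 d.2 G) (hc : chk3 l N D = true) : Ab3 G := by
  intro A hA
  have h1 : Nat.card A ∈ divl l := by
    refine mem_divl (valid_prime hv) ?_
    rw [valid_prod hv, ← hG]
    exact Subgroup.card_subgroup_dvd_card A
  unfold chk3 at hc
  rw [List.all_eq_true] at hc
  have h2 := hc _ h1
  rw [Bool.or_eq_true] at h2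
  rcases h2 with h2 | h2
  · rw [hG]
    rwa [Nat.blt_eq] at h2
  · exfalso
    rw [List.any_eq_true] at h2
    obtain ⟨d, hd, h3⟩ := h2
    rw [Bool.and_eq_true, List.all_eq_true] at h3
    obtain ⟨h4, h5⟩ := h3
    obtain ⟨c, hcL, hdc⟩ := hD d hd A hA (Nat.dvd_of_mod_eq_zero (by simpa only [_root_.beq_iff_eq] using h4))
    have h6 := h5 c hcL
    simp only [bne_iff_ne, ne_eq] at h6
    exact h6 (Nat.mod_eq_zero_of_dvd hdc)

/-- forbidden by the spectrum: two primes -/
theorem fb_of_spec {G : Type*} [Group G] [Finite G] {p q : ℕ} (hp : p.Prime) (hq : q.Prime) (hpq : p ≠ q)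
    (h : ∀ g : G, orderOf g ≠ p * q) : Fb (p * q) G :=
  fb_of_noComm hp hq fun x y hx hy hc => H805.NilSp.noComm_of_spec ((Nat.coprime_primes hp hq).2 hpq) h x y hx hy hc

/-! ### commutators of order two -/

/-- **Abelian subgroups of groups of order `2 ^ n` with commutators in `{1, z}`**: `|A| ^ 2 ≤ |Z(Q)| |Q|`. -/
theorem sq_le_of_two {Q : Type*} [Group Q] [Finite Q] {z : Q} (hz : ∀ a b : Q, a * b = b * a ∨ a * b = z * (b * a))
    {A : Subgroup Q} (hA : IsMulCommutative A) : Nat.card A ^ 2 ≤ Nat.card (center Q) * Nat.card Q := by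
  have h0 := comm_iff.1 hA
  -- a maximal `H` with `|A|² ≤ |C_A(H)| |H|`
  let Good : ℕ → Prop := fun n => ∃ H : Subgroup Q, Nat.card H = n ∧
    Nat.card A ^ 2 ≤ Nat.card ↥(A ⊓ centralizer (H : Set Q) : Subgroup Q) * Nat.card H
  have h1 : Good (Nat.card A) := by
    refine ⟨A, rfl, ?_⟩
    have h2 : A ⊓ centralizer (A : Set Q) = A := by
      refine inf_eq_left.2 fun a ha => ?_
      rw [mem_centralizer_iff]
      exact fun b hb => h0 b hb a ha
    rw [h2, pow_two]
  classical
  have hg : Good (Nat.findGreatest Good (Nat.card Q)) :=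
    Nat.findGreatest_spec (Subgroup.card_le_card_group A) h1
  obtain ⟨H, hH, hle⟩ := hg
  have htop : H = ⊤ := by
    by_contra hne
    obtain ⟨q, hq⟩ : ∃ q, q ∉ H := by
      by_contra hcon
      push Not at hcon
      exact hne ((Subgroup.eq_top_iff' H).2 hcon)
    set B := A ⊓ centralizer (H : Set Q) with hB
    set H' := H ⊔ zpowers q with hH'
    have hlt : H < H' := by
      refine lt_of_le_of_ne le_sup_left fun h => hq ?_
      rw [h]
      exact (le_sup_right : zpowers q ≤ H') (mem_zpowers q)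
    -- `|H'| ≥ 2 |H|`
    have h2 : 2 * Nat.card H ≤ Nat.card H' := by
      have h3 := Subgroup.card_mul_index (H.subgroupOf H')
      rw [Nat.card_congr (subgroupOfEquivOfLe hlt.le).toEquiv] at h3
      have h4 : (H.subgroupOf H').index ≠ 1 := by
        intro h
        rw [Subgroup.index_eq_one, Subgroup.subgroupOf_eq_top] at h
        exact hlt.not_ge h
      have h5 : (H.subgroupOf H').index ≠ 0 := Subgroup.index_ne_zero_of_finite
      rw [← h3, mul_comm]
      exact Nat.mul_le_mul_left _ (by omega)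
    -- `|B| ≤ 2 |C_B(q)|`
    set B' := A ⊓ centralizer (H' : Set Q) with hB'
    have h6 : Nat.card B ≤ 2 * Nat.card B' := by
      have h7 : ∀ b ∈ B, b * q = q * b → b ∈ B' := by
        intro b hb hbq
        refine ⟨hb.1, ?_⟩
        have h8 : H' ≤ centralizer ({b} : Set Q) := by
          rw [hH', sup_le_iff, zpowers_le]
          refine ⟨fun x hx => ?_, ?_⟩
          · rw [mem_centralizer_singleton_iff]
            exact mem_centralizer_iff.1 hb.2 x hx
          · rw [mem_centralizer_singleton_iff]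
            exact hbq.symm
        refine mem_centralizer_iff.2 ?_
        intro x hx
        exact mem_centralizer_singleton_iff.1 (h8 hx)
      have h9 : (B'.subgroupOf B).index ≤ 2 := by
        by_contra hcon
        push Not at hcon
        have : Fintype (↥B ⧸ B'.subgroupOf B) := Fintype.ofFinite _
        rw [Subgroup.index, Nat.card_eq_fintype_card] at hcon
        obtain ⟨x, y, w, hxy, hxw, hyw⟩ := Fintype.two_lt_card_iff.1 hcon
        obtain ⟨a, rfl⟩ := QuotientGroup.mk_surjective x
        obtain ⟨b, rfl⟩ := QuotientGroup.mk_surjective y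
        obtain ⟨c, rfl⟩ := QuotientGroup.mk_surjective w
        have key : ∀ a b : ↥B, (a : Q) * q * (a : Q)⁻¹ = (b : Q) * q * (b : Q)⁻¹ →
            (QuotientGroup.mk a : ↥B ⧸ B'.subgroupOf B) = QuotientGroup.mk b := by
          intro a b h
          rw [QuotientGroup.eq, mem_subgroupOf]
          refine h7 _ (B.mul_mem (B.inv_mem a.2) b.2) ?_
          have h10 : q = (a : Q)⁻¹ * ((b : Q) * q * (b : Q)⁻¹) * a := by rw [← h]; group
          calc ((a⁻¹ * b : ↥B) : Q) * q = (a : Q)⁻¹ * ((b : Q) * q * (b : Q)⁻¹) * a * ((a : Q)⁻¹ * b) := by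
                show (a : Q)⁻¹ * b * q = _
                group
            _ = q * ((a⁻¹ * b : ↥B) : Q) := by rw [← h10]; rfl
        have h11 : ∀ a : ↥B, (a : Q) * q * (a : Q)⁻¹ = q ∨ (a : Q) * q * (a : Q)⁻¹ = z * q := by
          intro a
          rcases hz a q with h | h
          · left
            rw [h]
            group
          · right
            rw [h]
            group
        rcases h11 a with ha | ha <;> rcases h11 b with hb | hb <;> rcases h11 c with hc | hc
        · exact hxy (key a b (ha.trans hb.symm))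
        · exact hxy (key a b (ha.trans hb.symm))
        · exact hxw (key a c (ha.trans hc.symm))
        · exact hyw (key b c (hb.trans hc.symm))
        · exact hyw (key b c (hb.trans hc.symm))
        · exact hxw (key a c (ha.trans hc.symm))
        · exact hxy (key a b (ha.trans hb.symm))
        · exact hxy (key a b (ha.trans hb.symm))
      have h12 := Subgroup.card_mul_index (B'.subgroupOf B)
      have h13 : B' ≤ B := by
        refine inf_le_inf_left _ ?_
        exact centralizer_le (show (H : Set Q) ⊆ H' from hlt.le)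
      rw [Nat.card_congr (subgroupOfEquivOfLe h13).toEquiv] at h12
      rw [← h12, mul_comm]
      exact Nat.mul_le_mul_right _ h9
    have h14 : Good (Nat.card H') := by
      refine ⟨H', rfl, hle.trans ?_⟩
      calc Nat.card B * Nat.card H ≤ 2 * Nat.card B' * Nat.card H := Nat.mul_le_mul_right _ h6
        _ = Nat.card B' * (2 * Nat.card H) := by ring
        _ ≤ Nat.card B' * Nat.card H' := Nat.mul_le_mul_left _ h2
    have h15 := Nat.le_findGreatest (Subgroup.card_le_card_group H') h14
    rw [← hH] at h15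
    have h16 : 0 < Nat.card H := Nat.card_pos
    omega
  subst htop
  rw [Subgroup.card_top] at hle
  refine hle.trans (Nat.mul_le_mul_right _ ?_)
  refine Subgroup.card_le_of_le ?_
  intro x hx
  rw [mem_center_iff]
  intro g
  exact mem_centralizer_iff.1 hx.2 g trivial

theorem abLE_of_two {Q : Type*} [Group Q] [Finite Q] {z : Q} (hz : ∀ a b : Q, a * b = b * a ∨ a * b = z * (b * a))
    {b : ℕ} (hb : Nat.card (center Q) * Nat.card Q < (b + 1) ^ 2) : AbLE b Q := by
  intro A hA
  have h1 := sq_le_of_two hz hA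
  by_contra h
  push Not at h
  have h5 : (b + 1) ^ 2 ≤ Nat.card A ^ 2 := Nat.pow_le_pow_left h 2
  omega

/-! ### Sylow arithmetic with forbidden primes -/

/-- the possible orders of the centralizer of an element of prime order `s`, `s ∥ N`, commuting with no element of
prime order in `F` -/
def sylF (l : List (ℕ × ℕ)) (N s : ℕ) (F : List ℕ) : List ℕ :=
  (sylL l N s).filter fun c => F.all fun q => c % q != 0

theorem cent_mem_sylF {G : Type*} [Group G] [Finite G] [IsSimpleGroup G] {N : ℕ} (hG : Nat.card G = N)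
    {l : List (ℕ × ℕ)} (hv : valid l N = true) {s : ℕ} (hs : s.Prime) (hsq : N % (s * s) ≠ 0) (hne : N ≠ s)
    {F : List ℕ} (hF : ∀ q ∈ F, q.Prime ∧ H805.NilSp.NoComm s q G) {x : G} (hx : orderOf x = s) :
    Nat.card ↥(centralizer ({x} : Set G)) ∈ sylF l N s F := by
  unfold sylF
  rw [List.mem_filter, List.all_eq_true]
  refine ⟨?_, ?_⟩
  · obtain ⟨e, he1, he2, he3, he4⟩ := H805.NilSp.arith hs hx (by
      rw [hG]; exact fun h => hsq (Nat.mod_eq_zero_of_dvd h)) (by rw [hG]; exact hne)
    unfold sylL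
    rw [List.mem_filter]
    have hs2 := hs.two_le
    have he0 : e ≠ 0 := by
      rintro rfl
      have := Nat.eq_zero_of_zero_dvd he1
      omega
    refine ⟨?_, ?_⟩
    · refine mem_divl (valid_prime hv) ?_
      rw [valid_prod hv, ← hG]
      exact Subgroup.card_subgroup_dvd_card _
    · rw [List.any_eq_true]
      refine ⟨e, List.mem_range.2 ?_, ?_⟩
      · have := Nat.le_of_dvd (by omega) he1
        omega
      · rw [hG] at he3 he4
        simp only [Bool.and_eq_true, beq_iff_eq, bne_iff_ne, ne_eq]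
        exact ⟨⟨⟨⟨Nat.mod_eq_zero_of_dvd he1, he2⟩, he0⟩, Nat.mod_eq_zero_of_dvd he3⟩, he4⟩
  · intro q hq
    obtain ⟨hqp, hno⟩ := hF q hq
    simp only [bne_iff_ne, ne_eq]
    exact fun h => H805.NilSp.not_dvd_of_noComm hqp hno hx (Nat.dvd_of_mod_eq_zero h)

theorem ca_sylF {G : Type*} [Group G] [Finite G] [IsSimpleGroup G] {N : ℕ} (hG : Nat.card G = N)
    {l : List (ℕ × ℕ)} (hv : valid l N = true) {s : ℕ} (hs : s.Prime) (hsq : N % (s * s) ≠ 0) (hne : N ≠ s)
    {F : List ℕ} (hF : ∀ q ∈ F, q.Prime ∧ H805.NilSp.NoComm s q G) : CA s (sylF l N s F) G :=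
  CD.ca hs fun _ hx => ⟨_, cent_mem_sylF hG hv hs hsq hne hF hx, dvd_rfl⟩

theorem noComm_of_eq {G : Type*} [Group G] {p q c : ℕ}
    (h : ∀ x : G, orderOf x = p → Nat.card ↥(centralizer ({x} : Set G)) = c) (hc : ¬ q ∣ c) :
    H805.NilSp.NoComm p q G :=
  H805.NilSp.noComm_of_not_dvd fun x hx hd => hc (by rw [← h x hx]; exact hd)

end Cfsg.Agent.H993.AbTool

private theorem dce_b5cf5f3d3c3f : _root_.True := by
  try have : _root_.True := by simp only [_root_.Cfsg.Agent.H993.AbTool.divl.eq_def]
  try have : _root_.True := by simp only [_root_.Cfsg.Agent.H993.AbTool.divl.eq_1]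
  try have : _root_.True := by simp only [_root_.Cfsg.Agent.H993.AbTool.divl.eq_2]
  exact _root_.True.intro
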