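import Cfsg.Agent.H709.GmnPSU
import Cfsg.Agent.H467.OddNormRow
import Cfsg.Agent.Prune
set_option linter.all false
prune_inst 0x7f00000000000000000000000000000000000000000000000000000000000000000000000000000000000000000000000000000000000000000000000000000000000000000000000000000000000000003fffffffffffffffffffffffffffbeffbdffffffff
open scoped Cfsg.Agent.FastGrp

/-!
# `PSU_n(q)`: block frames (S3855, row ON-PSU-c)

`K` a field with `q ^ 2` elements, `p` an odd prime, `e ≥ 3` odd the order of `-q` modulo `p`, `n ≥ 2 e`,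
`w = n / e`.  The stabiliser in the semilinear unitary group of an orthogonal decomposition
`V = V_1 ⊥ ... ⊥ V_w ⊥ V_0`, `dim V_i = e`, has index prime to `p`, and the sign of the permutation of
`V_1, ..., V_w` gives `Ev p (PSU n K q)`.
-/

set_option autoImplicit false
set_option linter.unusedSectionVars false
set_option linter.unusedVariables false

namespace Cfsg.Agent.H993.OnPSUc

open Cfsg Matrix
open Cfsg.Agent.LieClassical.SUBasic
open Cfsg.Agent.ClassicalGeometry.PSUAutCount Cfsg.Agent.ClassicalGeometry.UnitAutBasic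
open Cfsg.Agent.H183.OutPSU Cfsg.Agent.H709.Mono Cfsg.Agent.H709.GmnCrit Cfsg.Agent.H709.GmnPSU
open Cfsg.Agent.ClassicalGeometry.GUBasic

variable {F : Type*} [Field F] {q n w e s : ℕ}

/-- the block of a coordinate (`none`: the rest) -/
def blk (ε : Fin n ≃ (Fin e × Fin w) ⊕ Fin s) (i : Fin n) : Option (Fin w) :=
  Sum.elim (fun x => some x.2) (fun _ => none) (ε i)

/-- `A` permutes the blocks as `π` does and fixes the rest -/
def IsB (ε : Fin n ≃ (Fin e × Fin w) ⊕ Fin s) (A : Matrix (Fin n) (Fin n) F) (π : Equiv.Perm (Fin w)) : Prop :=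
  ∀ i j, blk ε i ≠ (blk ε j).map π → A i j = 0

variable {ε : Fin n ≃ (Fin e × Fin w) ⊕ Fin s}

theorem isB_one : IsB ε (1 : Matrix (Fin n) (Fin n) F) 1 := by
  intro i j h
  apply Matrix.one_apply_ne
  rintro rfl
  apply h
  cases blk ε i <;> rfl

theorem IsB.mul {A B : Matrix (Fin n) (Fin n) F} {π τ : Equiv.Perm (Fin w)} (hA : IsB ε A π) (hB : IsB ε B τ) :
    IsB ε (A * B) (π * τ) := by
  intro i j h
  rw [Matrix.mul_apply]
  refine Finset.sum_eq_zero fun k _ => ?_
  by_cases hk : blk ε k = (blk ε j).map τ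
  · rw [hA i k, zero_mul]
    intro hi
    apply h
    rw [hi, hk, Option.map_map]
    rfl
  · rw [hB k j hk, mul_zero]

theorem IsB.map {A : Matrix (Fin n) (Fin n) F} {π : Equiv.Perm (Fin w)} (hA : IsB ε A π) (σ : F ≃+* F) :
    IsB ε (A.map σ) π := by
  intro i j h
  rw [Matrix.map_apply, hA i j h, map_zero]

theorem gm_inv_apply (hq : q ≠ 0) (A : GU n F q) : gm A⁻¹ = ((gm A).map (fun x => x ^ q))ᵀ := by
  have h1 : (gm A)ᵀ * (gm A).map (fun x => x ^ q) = 1 := transpose_mul_map hq (fun u v => herm_gm A u v)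
  have h2 : ((gm A).map (fun x => x ^ q))ᵀ * gm A = 1 := by
    have := congrArg Matrix.transpose h1
    rwa [Matrix.transpose_mul, Matrix.transpose_transpose, Matrix.transpose_one] at this
  calc gm A⁻¹ = (((gm A).map (fun x => x ^ q))ᵀ * gm A) * gm A⁻¹ := by rw [h2, one_mul]
    _ = _ := by rw [mul_assoc, gm_mul_inv, mul_one]

theorem IsB.inv (hq : q ≠ 0) {A : GU n F q} {π : Equiv.Perm (Fin w)} (hA : IsB ε (gm A) π) :
    IsB ε (gm A⁻¹) π⁻¹ := by
  intro i j h
  rw [gm_inv_apply hq, Matrix.transpose_apply, Matrix.map_apply, hA j i, zero_pow hq]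
  intro h1
  apply h
  rw [h1, Option.map_map]
  have : (⇑π⁻¹ ∘ ⇑π) = id := by
    funext x
    exact π.symm_apply_apply x
  rw [this, Option.map_id]
  rfl

theorem exists_blk (he : 0 < e) (ε : Fin n ≃ (Fin e × Fin w) ⊕ Fin s) (k : Fin w) : ∃ j, blk ε j = some k := by
  refine ⟨ε.symm (Sum.inl (⟨0, he⟩, k)), ?_⟩
  unfold blk
  rw [Equiv.apply_symm_apply]
  rfl

theorem IsB.unique (he : 0 < e) {A : GU n F q} {π τ : Equiv.Perm (Fin w)} (h1 : IsB ε (gm A) π)
    (h2 : IsB ε (gm A) τ) : π = τ := by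
  ext k
  obtain ⟨j, hj⟩ := exists_blk he ε k
  obtain ⟨i, hi⟩ : ∃ i, gm A i j ≠ 0 := by
    by_contra hcon
    push Not at hcon
    have h3 : (gm A⁻¹ * gm A) j j = 1 := by rw [gm_inv_mul, Matrix.one_apply_eq]
    rw [Matrix.mul_apply, Finset.sum_eq_zero (fun k _ => by rw [hcon k, mul_zero])] at h3
    exact zero_ne_one h3
  have e1 : blk ε i = (blk ε j).map π := by
    by_contra h
    exact hi (h1 i j h)
  have e2 : blk ε i = (blk ε j).map τ := by
    by_contra h
    exact hi (h2 i j h)
  rw [hj] at e1 e2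
  rw [e1] at e2
  have := Option.some.inj e2
  rw [this]

/-- block monomial elements of `GU` -/
def NB (hq : q ≠ 0) (ε : Fin n ≃ (Fin e × Fin w) ⊕ Fin s) (F : Type*) [Field F] : Subgroup (GU n F q) where
  carrier := {A | ∃ π, IsB ε (gm A) π}
  one_mem' := ⟨1, isB_one⟩
  mul_mem' := by
    rintro A B ⟨π, hπ⟩ ⟨τ, hτ⟩
    exact ⟨π * τ, hπ.mul hτ⟩
  inv_mem' := by
    rintro A ⟨π, hπ⟩
    exact ⟨π⁻¹, hπ.inv hq⟩

noncomputable def permB (hq : q ≠ 0) (he : 0 < e) (ε : Fin n ≃ (Fin e × Fin w) ⊕ Fin s) (F : Type*) [Field F] :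
    NB hq ε F →* Equiv.Perm (Fin w) where
  toFun A := A.2.choose
  map_one' := IsB.unique (ε := ε) he (A := (1 : GU n F q)) (NB hq ε F).one_mem.choose_spec isB_one
  map_mul' A B := IsB.unique he (A := (A * B : GU n F q)) ((NB hq ε F).mul_mem A.2 B.2).choose_spec
    (A.2.choose_spec.mul B.2.choose_spec)

theorem permB_eq {hq : q ≠ 0} {he : 0 < e} {A : NB hq ε F} {π : Equiv.Perm (Fin w)}
    (h : IsB ε (gm (A : GU n F q)) π) : permB hq he ε F A = π :=
  IsB.unique he A.2.choose_spec h

/-- the block monomial semilinear group -/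
def XB (hq : q ≠ 0) (ε : Fin n ≃ (Fin e × Fin w) ⊕ Fin s) (F : Type*) [Field F] : Subgroup (Gam n q F) where
  carrier := {x | ∃ π, IsB ε (gm x.left) π}
  one_mem' := ⟨1, isB_one⟩
  mul_mem' := by
    rintro x y ⟨π, hπ⟩ ⟨τ, hτ⟩
    exact ⟨π * τ, hπ.mul (hτ.map x.right)⟩
  inv_mem' := by
    rintro x ⟨π, hπ⟩
    exact ⟨π⁻¹, (hπ.inv hq).map x.right⁻¹⟩

noncomputable def permXB (hq : q ≠ 0) (he : 0 < e) (ε : Fin n ≃ (Fin e × Fin w) ⊕ Fin s) (F : Type*) [Field F] :
    XB hq ε F →* Equiv.Perm (Fin w) where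
  toFun x := x.2.choose
  map_one' := IsB.unique (ε := ε) he (A := (1 : GU n F q)) (XB hq ε F).one_mem.choose_spec isB_one
  map_mul' x y := IsB.unique he (A := ((x : Gam n q F) * (y : Gam n q F)).left)
    ((XB hq ε F).mul_mem x.2 y.2).choose_spec
    (x.2.choose_spec.mul (y.2.choose_spec.map (x : Gam n q F).right))

theorem permXB_eq {hq : q ≠ 0} {he : 0 < e} {x : XB hq ε F} {π : Equiv.Perm (Fin w)}
    (h : IsB ε (gm (x : Gam n q F).left) π) : permXB hq he ε F x = π :=
  IsB.unique he x.2.choose_spec h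

/-! ### the block diagonal elements -/

/-- the block diagonal matrix -/
def big (ε : Fin n ≃ (Fin e × Fin w) ⊕ Fin s) (a : Fin w → Matrix (Fin e) (Fin e) F) : Matrix (Fin n) (Fin n) F :=
  (Matrix.fromBlocks (Matrix.blockDiagonal a) 0 0 (1 : Matrix (Fin s) (Fin s) F)).submatrix ε ε

theorem big_mul (a b : Fin w → Matrix (Fin e) (Fin e) F) : big ε (a * b) = big ε a * big ε b := by
  unfold big
  rw [Matrix.submatrix_mul_equiv, Matrix.fromBlocks_multiply]
  simp only [Matrix.mul_zero, Matrix.zero_mul, add_zero, zero_add, Matrix.mul_one]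
  rw [← Matrix.blockDiagonal_mul]
  rfl

theorem big_one : big ε (1 : Fin w → Matrix (Fin e) (Fin e) F) = 1 := by
  unfold big
  rw [Matrix.blockDiagonal_one, Matrix.fromBlocks_one, Matrix.submatrix_one_equiv]

theorem isB_big (a : Fin w → Matrix (Fin e) (Fin e) F) : IsB ε (big ε a) 1 := by
  intro i j h
  unfold big
  rw [Matrix.submatrix_apply]
  unfold blk at h
  rcases hi : ε i with ⟨x, k⟩ | x <;> rcases hj : ε j with ⟨y, l⟩ | y <;> rw [hi, hj] at h
  · rw [Matrix.fromBlocks_apply₁₁, Matrix.blockDiagonal_apply, if_neg]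
    rintro rfl
    exact h rfl
  · rfl
  · rfl
  · exact absurd rfl h

theorem big_transpose (a : Fin w → Matrix (Fin e) (Fin e) F) : (big ε a)ᵀ = big ε (fun k => (a k)ᵀ) := by
  unfold big
  rw [Matrix.transpose_submatrix, Matrix.fromBlocks_transpose, Matrix.blockDiagonal_transpose,
    Matrix.transpose_zero, Matrix.transpose_zero, Matrix.transpose_one]

theorem big_map (hq : q ≠ 0) (a : Fin w → Matrix (Fin e) (Fin e) F) :
    (big ε a).map (fun x => x ^ q) = big ε (fun k => (a k).map (fun x => x ^ q)) := by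
  unfold big
  rw [← Matrix.submatrix_map, Matrix.fromBlocks_map,
    Matrix.blockDiagonal_map a (fun x : F => x ^ q) (show (fun x : F => x ^ q) 0 = 0 from zero_pow hq)]
  congr 2
  · ext i j
    exact zero_pow hq
  · ext i j
    exact zero_pow hq
  · ext i j
    rw [Matrix.map_apply]
    by_cases h : i = j
    · subst h
      rw [Matrix.one_apply_eq, one_pow]
    · rw [Matrix.one_apply_ne h, zero_pow hq]

/-- membership in `GU` from the matrix equation -/
theorem herm_of_mul [Fintype F] (hF : Fintype.card F = q ^ 2) {A : Matrix (Fin n) (Fin n) F}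
    (hA : Aᵀ * A.map (fun x => x ^ q) = 1) (u v : Fin n → F) :
    hermForm n F q (A *ᵥ u) (A *ᵥ v) = hermForm n F q u v := by
  obtain ⟨σ, hσ⟩ := exists_powHom hF
  have h1 : ∀ x y : Fin n → F, hermForm n F q x y = x ⬝ᵥ (fun i => y i ^ q) := fun x y => rfl
  rw [h1, h1]
  have h2 : (fun i => (A *ᵥ v) i ^ q) = A.map (fun x => x ^ q) *ᵥ (fun i => v i ^ q) := by
    funext i
    rw [← hσ]
    show σ (∑ j, A i j * v j) = ∑ j, A i j ^ q * v j ^ q
    rw [map_sum]
    refine Finset.sum_congr rfl fun j _ => ?_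
    rw [map_mul, hσ, hσ]
  rw [h2, ← Matrix.vecMul_transpose, ← Matrix.dotProduct_mulVec, Matrix.mulVec_mulVec, hA, Matrix.one_mulVec]

/-- the block diagonal homomorphism -/
def bigHom [Fintype F] (hF : Fintype.card F = q ^ 2) (ε : Fin n ≃ (Fin e × Fin w) ⊕ Fin s) :
    (Fin w → GU e F q) →* GU n F q where
  toFun a := ⟨⟨big ε (fun k => gm (a k)), big ε (fun k => gm (a k)⁻¹), by
      rw [← big_mul, ← big_one (ε := ε)]
      congr 1
      funext k
      exact gm_mul_inv (a k), by
      rw [← big_mul, ← big_one (ε := ε)]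
      congr 1
      funext k
      exact gm_inv_mul (a k)⟩, by
    have hq : q ≠ 0 := by
      have := two_le hF
      omega
    refine (mem_GU_iff _).2 (herm_of_mul hF ?_)
    show (big ε (fun k => gm (a k)))ᵀ * (big ε (fun k => gm (a k))).map (fun x => x ^ q) = 1
    rw [big_transpose, big_map hq, ← big_mul, ← big_one (ε := ε)]
    congr 1
    funext k
    exact transpose_mul_map hq (fun u v => herm_gm (a k) u v)⟩
  map_one' := by
    apply gm_inj
    exact big_one
  map_mul' a b := by
    apply gm_inj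
    exact big_mul _ _

theorem gm_bigHom [Fintype F] (hF : Fintype.card F = q ^ 2) (a : Fin w → GU e F q) :
    gm (bigHom hF ε a) = big ε (fun k => gm (a k)) := rfl

theorem bigHom_injective [Fintype F] (hF : Fintype.card F = q ^ 2) : Function.Injective (bigHom hF ε) := by
  intro a b h
  have h1 : big ε (fun k => gm (a k)) = big ε (fun k => gm (b k)) := congrArg gm h
  unfold big at h1
  have h2 := congrArg (fun M => M.submatrix ε.symm ε.symm) h1
  simp only [Matrix.submatrix_submatrix, Equiv.self_comp_symm, Matrix.submatrix_id_id] at h2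
  have h3 := (Matrix.fromBlocks_inj.1 h2).1
  have h4 := Matrix.blockDiagonal_injective h3
  funext k
  exact gm_inj (congrFun h4 k)

/-! ### block permutations -/

/-- the permutation of the coordinates -/
def bp (ε : Fin n ≃ (Fin e × Fin w) ⊕ Fin s) (τ : Equiv.Perm (Fin w)) : Equiv.Perm (Fin n) :=
  (ε.trans (Equiv.sumCongr (Equiv.prodCongr (Equiv.refl _) τ) (Equiv.refl _))).trans ε.symm

theorem blk_bp (τ : Equiv.Perm (Fin w)) (i : Fin n) : blk ε (bp ε τ i) = (blk ε i).map τ := by
  unfold blk bp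
  simp only [Equiv.trans_apply, Equiv.apply_symm_apply]
  rcases ε i with ⟨x, k⟩ | x <;> rfl

theorem isB_guPerm (τ : Equiv.Perm (Fin w)) : IsB ε (gm (guPerm q (bp ε τ) : GU n F q)) τ⁻¹ := by
  intro i j h
  change (bp ε τ).permMatrix F i j = 0
  rw [Equiv.Perm.permMatrix, PEquiv.toMatrix_apply, if_neg]
  intro h1
  apply h
  have h2 : bp ε τ i = j := by simpa using h1
  rw [← h2, blk_bp, Option.map_map]
  have : (⇑τ⁻¹ ∘ ⇑τ) = id := by
    funext x
    exact τ.symm_apply_apply x
  rw [this, Option.map_id]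
  rfl

theorem permB_surjective {hq : q ≠ 0} {he : 0 < e} : Function.Surjective (permB hq he ε F) := by
  intro τ
  have h := isB_guPerm (F := F) (q := q) (ε := ε) τ⁻¹
  rw [inv_inv] at h
  exact ⟨⟨guPerm q (bp ε τ⁻¹), τ, h⟩, permB_eq h⟩

theorem sign_bp (ho : Odd e) {k l : Fin w} (hkl : k ≠ l) : Equiv.Perm.sign (bp ε (Equiv.swap k l)) = -1 := by
  have h1 : Equiv.Perm.sign (bp ε (Equiv.swap k l)) =
      Equiv.Perm.sign (Equiv.sumCongr (Equiv.prodCongr (Equiv.refl (Fin e)) (Equiv.swap k l)) (Equiv.refl (Fin s))) := by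
    unfold bp
    exact Equiv.Perm.sign_trans_trans_symm _ ε
  rw [h1]
  have h2 : (Equiv.sumCongr (Equiv.prodCongr (Equiv.refl (Fin e)) (Equiv.swap k l)) (Equiv.refl (Fin s)) :
      Equiv.Perm ((Fin e × Fin w) ⊕ Fin s)) =
      Equiv.Perm.sumCongr (Equiv.prodCongrRight (fun _ : Fin e => Equiv.swap k l)) 1 := by
    ext x
    rcases x with ⟨x, y⟩ | x <;> rfl
  rw [h2, Equiv.Perm.sign_sumCongr, Equiv.Perm.sign_prodCongrRight, map_one, mul_one]
  simp only [Equiv.Perm.sign_swap hkl, Finset.prod_const, Finset.card_univ, Fintype.card_fin]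
  exact ho.neg_one_pow


/-! ### the order of `GU_n(q)` -/

theorem val_prod {p : ℕ} [hp : Fact p.Prime] (hp2 : p ≠ 2) (hq : 2 ≤ q) (hpq : ¬ p ∣ q) (he : orderOf (-(q : ZMod p)) = e)
    (ho : Odd e) (n : ℕ) :
    (∏ i ∈ Finset.range n, (if Even i then q ^ (i + 1) + 1 else q ^ (i + 1) - 1)) ≠ 0 ∧
    padicValNat p (∏ i ∈ Finset.range n, (if Even i then q ^ (i + 1) + 1 else q ^ (i + 1) - 1)) =
      padicValNat p ((q ^ e + 1) ^ (n / e) * (n / e).factorial) := by
  have he0 : 0 < e := ho.pos
  have hqe : p ∣ q ^ e + 1 := by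
    rw [← ZMod.natCast_eq_zero_iff]
    push_cast
    have h1 : (-(q : ZMod p)) ^ e = 1 := he ▸ pow_orderOf_eq_one _
    rw [ho.neg_pow] at h1
    have h2 : (q : ZMod p) ^ e = -1 := by rw [← h1, neg_neg]
    rw [h2]
    ring
  induction n with
  | zero => simp
  | succ n ih =>
    obtain ⟨ih1, ih2⟩ := ih
    have hq1 : 2 ≤ q ^ (n + 1) := by
      calc 2 ≤ q := hq
        _ = q ^ 1 := (pow_one q).symm
        _ ≤ q ^ (n + 1) := Nat.pow_le_pow_right (by omega) (by omega)
    have h0 : (if Even n then q ^ (n + 1) + 1 else q ^ (n + 1) - 1) ≠ 0 := by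
      split_ifs <;> omega
    rw [Finset.prod_range_succ]
    refine ⟨mul_ne_zero ih1 h0, ?_⟩
    rw [padicValNat.mul ih1 h0, ih2]
    have h1 : ∀ k, (q ^ e + 1) ^ k ≠ 0 := fun k => pow_ne_zero _ (by omega)
    have h2 : ∀ k : ℕ, k.factorial ≠ 0 := fun k => Nat.factorial_ne_zero k
    rw [Nat.succ_div]
    by_cases hd : e ∣ n + 1
    · rw [if_pos hd]
      obtain ⟨m, hm⟩ := hd
      have hm0 : m ≠ 0 := by
        rintro rfl
        omega
      have hnd : n / e = m - 1 := by
        have h3 : (n + 1) / e = m := by rw [hm]; exact Nat.mul_div_cancel_left m he0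
        rw [Nat.succ_div, if_pos ⟨m, hm⟩] at h3
        omega
      have h4 := val_term (p := p) hp2 (q := q ^ e) (by
        calc 2 ≤ q := hq
          _ = q ^ 1 := (pow_one q).symm
          _ ≤ q ^ e := Nat.pow_le_pow_right (by omega) (by omega)) hqe (m - 1)
      rw [Nat.sub_add_cancel (by omega : 1 ≤ m)] at h4
      have h5 : (if Even n then q ^ (n + 1) + 1 else q ^ (n + 1) - 1) =
          (if Even (m - 1) then (q ^ e) ^ m + 1 else (q ^ e) ^ m - 1) := by
        have h6 : Even n ↔ Even (m - 1) := by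
          have h7 : Even (n + 1) ↔ Even m := by
            rw [hm, Nat.even_mul]
            constructor
            · rintro (h | h)
              · exact absurd h (Nat.not_even_iff_odd.2 ho)
              · exact h
            · exact Or.inr
          have h8 : Even ((m - 1) + 1) ↔ Even m := by rw [Nat.sub_add_cancel (by omega : 1 ≤ m)]
          rw [Nat.even_add_one] at h7 h8
          have h9 : ¬ Even n ↔ ¬ Even (m - 1) := h7.trans h8.symm
          exact not_iff_not.1 h9
        rw [← pow_mul, ← hm]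
        by_cases h7 : Even n
        · rw [if_pos h7, if_pos (h6.1 h7)]
        · rw [if_neg h7, if_neg (fun h8 => h7 (h6.2 h8))]
      rw [h5, h4, hnd, Nat.sub_add_cancel (by omega : 1 ≤ m)]
      have h6 : m.factorial = m * (m - 1).factorial := (Nat.mul_factorial_pred hm0).symm
      have h7 : (q ^ e + 1) ^ m = (q ^ e + 1) ^ (m - 1) * (q ^ e + 1) := by
        rw [← pow_succ, Nat.sub_add_cancel (by omega : 1 ≤ m)]
      rw [h6, h7, padicValNat.mul (h1 _) (h2 _), padicValNat.mul (mul_ne_zero (h1 _) (by omega))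
        (mul_ne_zero hm0 (h2 _)), padicValNat.mul (h1 _) (by omega), padicValNat.mul hm0 (h2 _)]
      ring
    · rw [if_neg hd, add_zero]
      have h3 : ¬ p ∣ (if Even n then q ^ (n + 1) + 1 else q ^ (n + 1) - 1) := by
        intro h4
        apply hd
        rw [← he]
        apply orderOf_dvd_of_pow_eq_one
        by_cases h5 : Even n
        · rw [if_pos h5, ← ZMod.natCast_eq_zero_iff] at h4
          push_cast at h4
          rw [(h5.add_one).neg_pow, eq_comm, ← sub_eq_zero, sub_neg_eq_add, add_comm]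
          exact h4
        · rw [if_neg h5, ← ZMod.natCast_eq_zero_iff, Nat.cast_sub (by omega)] at h4
          push_cast at h4
          have h6 : Even (n + 1) := (Nat.not_even_iff_odd.1 h5).add_one
          rw [h6.neg_pow]
          exact sub_eq_zero.1 h4
      rw [padicValNat.eq_zero_of_not_dvd h3, add_zero]

theorem val_card [Fintype F] (hF : Fintype.card F = q ^ 2) {p : ℕ} [hp : Fact p.Prime] (hp2 : p ≠ 2) (hpq : ¬ p ∣ q)
    (he : orderOf (-(q : ZMod p)) = e) (ho : Odd e) (n : ℕ) :
    padicValNat p (Nat.card (GU n F q)) = padicValNat p ((q ^ e + 1) ^ (n / e) * (n / e).factorial) := by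
  have hq : 2 ≤ q := LieClassical.GUOrder.two_le hF
  obtain ⟨h1, h2⟩ := val_prod (q := q) hp2 hq hpq he ho n
  have h3 : Nat.card (GU n F q) = q ^ (n * (n - 1) / 2) * ∏ i ∈ Finset.range n,
      (if Even i then q ^ (i + 1) + 1 else q ^ (i + 1) - 1) := Cfsg.Agent.S0277.result hF n
  rw [h3, padicValNat.mul (pow_ne_zero _ (by omega)) h1, h2,
    padicValNat.eq_zero_of_not_dvd (fun h => hpq (hp.out.dvd_of_dvd_pow h)), zero_add]

theorem card_dvd_NB [Fintype F] (hF : Fintype.card F = q ^ 2) {hq : q ≠ 0} (he : 0 < e) :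
    Nat.card (GU e F q) ^ w * w.factorial ∣ Nat.card (NB hq ε F) := by
  have hfin : Finite (GU n F q) := LieClassical.GUOrder.finite_GU n
  have h1 : Nat.card (NB hq ε F) = Nat.card (permB hq he ε F).ker * w.factorial := by
    have hc : Nat.card (Equiv.Perm (Fin w)) = w.factorial := by
      rw [Nat.card_eq_fintype_card, Fintype.card_perm, Fintype.card_fin]
    rw [← Subgroup.card_mul_index (permB hq he ε F).ker, Subgroup.index_ker,
      MonoidHom.range_eq_top.2 permB_surjective, Subgroup.card_top, hc]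
  rw [h1]
  apply Nat.mul_dvd_mul_right
  have hE : Nat.card (Fin w → GU e F q) = Nat.card (GU e F q) ^ w := by
    rw [Nat.card_fun, Nat.card_fin]
  let D : (Fin w → GU e F q) →* (permB hq he ε F).ker :=
    { toFun := fun a => ⟨⟨bigHom hF ε a, 1, isB_big _⟩, permB_eq (isB_big _)⟩
      map_one' := by
        apply Subtype.ext
        apply Subtype.ext
        exact map_one _
      map_mul' := by
        intro a b
        apply Subtype.ext
        apply Subtype.ext
        exact map_mul _ _ _ }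
  rw [← hE]
  apply Subgroup.card_dvd_of_injective D
  intro a b hab
  have h2 : bigHom hF ε a = bigHom hF ε b :=
    congrArg (fun x : (permB hq he ε F).ker => ((x : NB hq ε F) : GU n F q)) hab
  exact bigHom_injective hF h2

theorem index_XB [Fintype F] (hF : Fintype.card F = q ^ 2) {p : ℕ} [hp : Fact p.Prime]
    (hp2 : p ≠ 2) (hpq : ¬ p ∣ q) (he : orderOf (-(q : ZMod p)) = e) (ho : Odd e)
    (ε : Fin n ≃ (Fin e × Fin (n / e)) ⊕ Fin s) {hq : q ≠ 0} : ¬ p ∣ (XB hq ε F).index := by
  have hfin : Finite (GU n F q) := LieClassical.GUOrder.finite_GU n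
  have hfinR : Finite (F ≃+* F) :=
    Finite.of_injective (fun α : F ≃+* F => (α : F → F))
      (fun α β h => RingEquiv.ext fun x => congrFun h x)
  have e1 : Nat.card (Gam n q F) = Nat.card (GU n F q) * Nat.card (F ≃+* F) := by
    rw [← Nat.card_prod]
    exact Nat.card_congr SemidirectProduct.equivProd
  have e2 : Nat.card (XB hq ε F) = Nat.card (NB hq ε F) * Nat.card (F ≃+* F) := by
    rw [← Nat.card_prod]
    exact Nat.card_congr
      { toFun := fun x => (⟨(x : Gam n q F).left, x.2⟩, (x : Gam n q F).right)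
        invFun := fun x => ⟨⟨(x.1 : GU n F q), x.2⟩, x.1.2⟩
        left_inv := fun x => rfl
        right_inv := fun x => rfl }
  have e3 := Subgroup.card_mul_index (XB hq ε F)
  rw [e1, e2] at e3
  have hR : 0 < Nat.card (F ≃+* F) := Nat.card_pos
  have e4 : Nat.card (NB hq ε F) * (XB hq ε F).index = Nat.card (GU n F q) := by
    apply Nat.eq_of_mul_eq_mul_right hR
    rw [← e3]
    ring
  intro hdvd
  have hfe : Finite (GU e F q) := LieClassical.GUOrder.finite_GU e
  have h4 := val_card hF hp2 hpq he ho n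
  have h5 : Nat.card (GU e F q) ^ (n / e) * (n / e).factorial * p ∣ Nat.card (GU n F q) := by
    rw [← e4]
    exact Nat.mul_dvd_mul (card_dvd_NB hF ho.pos) hdvd
  have h6 : Nat.card (GU n F q) ≠ 0 := Nat.card_pos.ne'
  have h8 : Nat.card (GU e F q) ≠ 0 := Nat.card_pos.ne'
  have h7 : padicValNat p (Nat.card (GU e F q) ^ (n / e) * (n / e).factorial * p) ≤ padicValNat p (Nat.card (GU n F q)) :=
    padicValNat_dvd_iff_le h6 |>.1 ((pow_padicValNat_dvd).trans h5)
  have h9 : padicValNat p (Nat.card (GU e F q)) = padicValNat p (q ^ e + 1) := by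
    rw [val_card hF hp2 hpq he ho e, Nat.div_self ho.pos, pow_one, Nat.factorial_one, mul_one]
  rw [padicValNat.mul (mul_ne_zero (pow_ne_zero _ h8) (Nat.factorial_ne_zero _)) hp.out.ne_zero,
    padicValNat.self hp.out.one_lt, padicValNat.mul (pow_ne_zero _ h8) (Nat.factorial_ne_zero _), padicValNat.pow,
    h9, h4, padicValNat.mul (pow_ne_zero _ (by omega)) (Nat.factorial_ne_zero _), padicValNat.pow] at h7
  omega

/-- the swap of two blocks, corrected to determinant one -/
theorem exists_swap [Fintype F] (hF : Fintype.card F = q ^ 2) (ho : Odd e) (ε : Fin n ≃ (Fin e × Fin w) ⊕ Fin s)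
    {k l : Fin w} (hkl : k ≠ l) : ∃ A : GU n F q, IsB ε (gm A) (Equiv.swap k l) ∧ (gm A).det = 1 := by
  obtain ⟨i0, -⟩ := exists_blk ho.pos ε k
  have hneg : (-1 : F) ^ q = -1 := by
    rw [← LieClassical.GUOrder.frob_apply hF, map_neg, map_one]
  have ha : ∀ i, (fun i : Fin n => if i = i0 then (-1 : F) else 1) i ^ (q + 1) = 1 := by
    intro i
    simp only
    split_ifs
    · rw [pow_succ, hneg]; ring
    · exact one_pow _
  refine ⟨guDiag q _ ha * guPerm q (bp ε (Equiv.swap k l)), ?_, ?_⟩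
  · have h0 : IsB ε (gm (guDiag q _ ha : GU n F q)) 1 := by
      intro i j h
      exact Matrix.diagonal_apply_ne _ (by
        rintro rfl
        apply h
        cases blk ε i <;> rfl)
    have h1 := h0.mul (isB_guPerm (q := q) (ε := ε) (F := F) (Equiv.swap k l))
    rw [one_mul, Equiv.swap_inv] at h1
    exact h1
  · rw [gm_mul, det_mul]
    have h1 : (gm (guDiag q _ ha : GU n F q)).det = -1 := by
      change (diagonal (fun i : Fin n => if i = i0 then (-1 : F) else 1)).det = -1
      rw [det_diagonal, Finset.prod_ite_eq' Finset.univ i0 (fun _ => (-1 : F)), if_pos (Finset.mem_univ _)]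
    have h2 : (gm (guPerm q (bp ε (Equiv.swap k l)) : GU n F q)).det = -1 := by
      change ((bp ε (Equiv.swap k l)).permMatrix F).det = -1
      rw [det_permutation, sign_bp ho hkl]
      simp
    rw [h1, h2]
    ring

/-- **Row ON-PSU-c.** -/
theorem psu_c {K : Type*} [Field K] [Fintype K] {q n p e : ℕ} [hp : Fact p.Prime] (hK : Fintype.card K = q ^ 2)
    (hp2 : p ≠ 2) (hpq : ¬ p ∣ q) (he : orderOf (-(q : ZMod p)) = e) (h3 : 3 ≤ e) (ho : Odd e) (hn : 2 * e ≤ n) :
    Cfsg.Agent.H467.OddNorm.Ev p (PSU n K q) := by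
  classical
  have hq2 : 2 ≤ q := LieClassical.GUOrder.two_le hK
  have hq : q ≠ 0 := by omega
  have hfin : Finite (GU n K q) := LieClassical.GUOrder.finite_GU n
  have hfinP : Finite (PSU n K q) := Finite.of_surjective _ (pr_surjective (n := n) (F := K) (q := q))
  have hfinR : Finite (K ≃+* K) :=
    Finite.of_injective (fun α : K ≃+* K => (α : K → K))
      (fun α β h => RingEquiv.ext fun x => congrFun h x)
  have hfinG : Finite (Gam n q K) := Finite.of_equiv _ SemidirectProduct.equivProd.symm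
  have hn3 : 3 ≤ n := by omega
  have h32 : ¬ (n = 3 ∧ q = 2) := by omega
  have hsimple : IsSimpleGroup (PSU n K q) := Cfsg.Agent.S0283.result hK n hn3 h32
  have hperf : commutator (PSU n K q) = ⊤ := by
    have h3 := Cfsg.Agent.LieClassical.HermPerfect.commutator_SU_eq_top hK hn3 h32
    have h4 : (commutator (SU n K q)).map (pr n K q) = commutator (PSU n K q) := by
      rw [commutator_def, commutator_def, Subgroup.map_commutator, ← MonoidHom.range_eq_map,
        MonoidHom.range_eq_top.2 pr_surjective]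
    rw [← h4, h3, ← MonoidHom.range_eq_map, MonoidHom.range_eq_top.2 pr_surjective]
  have hZ := center_eq_bot_of_perfect hperf
  have hsurj := Cfsg.Agent.ClassicalGeometry.PSUAutMain.exists_toAut hK hn3 h32
  have he0 : 0 < e := by omega
  have hw : 2 ≤ n / e := (Nat.le_div_iff_mul_le he0).2 hn
  -- coordinates
  obtain ⟨ε⟩ : Nonempty (Fin n ≃ (Fin e × Fin (n / e)) ⊕ Fin (n % e)) := by
    refine ⟨Fintype.equivOfCardEq ?_⟩
    rw [Fintype.card_sum, Fintype.card_prod, Fintype.card_fin, Fintype.card_fin, Fintype.card_fin, Fintype.card_fin]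
    exact (Nat.div_add_mod n e).symm
  have hkl : (⟨0, by omega⟩ : Fin (n / e)) ≠ ⟨1, by omega⟩ := by
    intro h
    have := congrArg Fin.val h
    exact absurd this (by norm_num)
  obtain ⟨A, hA1, hA2⟩ := exists_swap hK ho ε hkl
  have hmem : (SemidirectProduct.inl A : Gam n q K) ∈ XB hq ε K := ⟨_, hA1⟩
  refine Cfsg.Agent.H467.OddNorm.Ev.of_range (p := p) hp2 hZ ((rho n q K).comp (XB hq ε K).subtype) ?_
    (Equiv.Perm.sign.comp (permXB hq he0 ε K)) ?_ (γ := ⟨_, hmem⟩)
    (s := pr n K q (exists_SU_of_det A hA2).choose) ?_ ?_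
  · intro hd
    apply index_XB hK hp2 hpq he ho ε (hq := hq)
    refine hd.trans ?_
    have h4 : ((rho n q K).comp (XB hq ε K).subtype).range = (XB hq ε K).map (rho n q K) := by
      rw [MonoidHom.range_comp, Subgroup.range_subtype]
    rw [h4]
    apply Subgroup.index_map_dvd
    intro α
    obtain ⟨B, σ, rfl⟩ := hsurj α
    exact ⟨⟨B, σ⟩, rho_apply _⟩
  · rintro ⟨γ, hγ⟩ h4
    change rho n q K γ = 1 at h4
    have h5 : toAut γ.left γ.right = toAut (1 : GU n K q) (1 : K ≃+* K) := by
      rw [← rho_apply, h4]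
      exact ((cG n q K).map_one).symm
    obtain ⟨-, c, hc, h6⟩ := eq_of_toAut_eq hK hn3 h5
    have h7 : IsB ε (gm γ.left) 1 := by
      intro i j hij
      have hc0 : c ≠ 0 := by
        rintro rfl
        rw [zero_mul] at hc
        exact zero_ne_one hc
      have h8 := congrFun (congrFun h6 i) j
      rw [gm_one, Matrix.one_apply_ne (by
        rintro rfl
        apply hij
        cases blk ε i <;> rfl), Matrix.smul_apply, smul_eq_mul] at h8
      exact (mul_eq_zero.1 h8.symm).resolve_left hc0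
    change Equiv.Perm.sign (permXB hq he0 ε K ⟨γ, hγ⟩) = 1
    rw [permXB_eq (x := ⟨γ, hγ⟩) h7, map_one]
  · change rho n q K (SemidirectProduct.inl A) = _
    rw [rho_inl]
    exact cG_of_SU _ A (exists_SU_of_det A hA2).choose_spec
  · change Equiv.Perm.sign (permXB hq he0 ε K ⟨_, hmem⟩) ≠ 1
    rw [permXB_eq (x := ⟨_, hmem⟩) hA1, Equiv.Perm.sign_swap hkl]
    decide

end Cfsg.Agent.H993.OnPSUc
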